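import Cfsg.Agent.Lib.Helper66.S3Defs

/-! # S3 hive (S4305), leaf D1' `comp_le` (helper33). -/

set_option autoImplicit false

namespace Cfsg.Agent.Lib.Helper66.S3

universe u

variable {H V : Type u} [Group H] [CommGroup V] [MulDistribMulAction A3 H]
  [MulDistribMulAction A3 V] [MulDistribMulAction H V] {p r : ℕ} {F : Subgroup H}

/-- D1' -/
theorem comp_le (C : Subgroup H) (hC : comp (V := V) F C ≠ ⊥) : C ≤ F := by
  by_contra hle
  apply hC
  unfold comp
  rw [eq_bot_iff]
  apply iSup_le
  intro U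
  apply iSup_le
  rintro ⟨_, hker⟩
  exfalso
  apply hle
  rw [← hker]
  intro x hx
  exact hx.1

end Cfsg.Agent.Lib.Helper66.S3
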