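import Cfsg.Agent.Lib.Helper66.S3Defs

/-!
# S3 hive (S4305, helper66), leaf S3-D3: `comp_smulH` (helper27)
-/

set_option autoImplicit false

namespace Cfsg.Agent.Lib.Helper66.S3

universe u

section decomp

variable {H V : Type u} [Group H] [CommGroup V] [MulDistribMulAction A3 H]
  [MulDistribMulAction A3 V] [MulDistribMulAction H V] {p r : ℕ} {F : Subgroup H}

omit [MulDistribMulAction A3 H] [MulDistribMulAction A3 V] in
theorem d3_mem_kerOn (F : Subgroup H) (U : Subgroup V) (x : H) :
    x ∈ kerOn F U ↔ x ∈ F ∧ ∀ u ∈ U, x • u = u := Iff.rfl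

omit [MulDistribMulAction A3 H] [MulDistribMulAction A3 V] in
/-- the image of a minimal `F`-invariant subgroup with kernel `C` under `h` (for `F` normal). -/
theorem d3_image (hN : F.Normal) (C : Subgroup H) (h : H) (U : Subgroup V)
    (hU : IsMinInv F U) (hker : kerOn F U = C) :
    IsMinInv F (U.map (MulDistribMulAction.toMonoidHom V h)) ∧
      kerOn F (U.map (MulDistribMulAction.toMonoidHom V h)) = mapH h C := by
  set φ : V →* V := MulDistribMulAction.toMonoidHom V h with hφdef
  have hφ : ∀ v, φ v = h • v := fun v => rfl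
  constructor
  · obtain ⟨hne, hinv, hminU⟩ := hU
    refine ⟨?_, ?_, ?_⟩
    · intro hbot
      apply hne
      rw [Subgroup.eq_bot_iff_forall] at hbot ⊢
      intro u hu
      have := hbot (φ u) (Subgroup.mem_map_of_mem φ hu)
      rw [hφ] at this
      have h2 : h⁻¹ • (h • u) = h⁻¹ • (1 : V) := congrArg (h⁻¹ • ·) this
      rwa [inv_smul_smul, smul_one] at h2
    · rintro f hf _ ⟨u, hu, rfl⟩
      have hfF : h⁻¹ * f * h ∈ F := by
        have := hN.conj_mem f hf h⁻¹
        simpa using this
      refine ⟨(h⁻¹ * f * h) • u, hinv _ hfF u hu, ?_⟩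
      rw [hφ, hφ, ← mul_smul, ← mul_smul]
      congr 1
      group
    · intro W hWU hWinv
      have hW0le : W.comap φ ≤ U := by
        intro w hw
        have hw' : φ w ∈ U.map φ := hWU hw
        obtain ⟨u, hu, hu2⟩ := hw'
        have : u = w := by
          rw [hφ, hφ] at hu2
          have h2 : h⁻¹ • (h • u) = h⁻¹ • (h • w) := congrArg (h⁻¹ • ·) hu2
          rwa [inv_smul_smul, inv_smul_smul] at h2
        rw [← this]
        exact hu
      have hW0inv : ∀ f ∈ F, ∀ w ∈ W.comap φ, f • w ∈ W.comap φ := by
        intro f hf w hw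
        have hw' : h • w ∈ W := hw
        show h • (f • w) ∈ W
        have : h • (f • w) = (h * f * h⁻¹) • (h • w) := by
          rw [← mul_smul, ← mul_smul]
          congr 1
          group
        rw [this]
        exact hWinv _ (hN.conj_mem f hf h) _ hw'
      have hWmap : (W.comap φ).map φ = W := by
        ext w
        constructor
        · rintro ⟨w0, hw0, rfl⟩
          exact hw0
        · intro hw
          refine ⟨h⁻¹ • w, ?_, ?_⟩
          · show h • (h⁻¹ • w) ∈ W
            rw [smul_inv_smul]
            exact hw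
          · show h • (h⁻¹ • w) = w
            rw [smul_inv_smul]
      rcases hminU _ hW0le hW0inv with h0 | h0
      · left
        rw [← hWmap, h0, Subgroup.map_bot]
      · right
        rw [← hWmap, h0]
  · ext x
    constructor
    · intro hx
      obtain ⟨hxF, hx⟩ := (d3_mem_kerOn F _ x).mp hx
      have hc : h⁻¹ * x * h ∈ kerOn F U := by
        rw [d3_mem_kerOn]
        refine ⟨?_, fun u hu => ?_⟩
        · have := hN.conj_mem x hxF h⁻¹
          simpa using this
        · have := hx (φ u) (Subgroup.mem_map_of_mem φ hu)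
          rw [hφ] at this
          rw [mul_smul, mul_smul, this, inv_smul_smul]
      rw [hker] at hc
      refine ⟨h⁻¹ * x * h, hc, ?_⟩
      show h * (h⁻¹ * x * h) * h⁻¹ = x
      group
    · rintro ⟨c, hc, rfl⟩
      have hc' : c ∈ kerOn F U := by rw [hker]; exact hc
      obtain ⟨hcF, hcU⟩ := (d3_mem_kerOn F U c).mp hc'
      rw [d3_mem_kerOn]
      refine ⟨?_, ?_⟩
      · show h * c * h⁻¹ ∈ F
        exact hN.conj_mem c hcF h
      · rintro _ ⟨u, hu, rfl⟩
        show (h * c * h⁻¹) • (h • u) = h • u
        rw [← mul_smul]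
        have : h * c * h⁻¹ * h = h * c := by group
        rw [this, mul_smul, hcU u hu]

/-- D3 -/
theorem comp_smulH (cfg : Config H V p r F) (C : Subgroup H) (h : H) (v : V)
    (hv : v ∈ comp F C) : h • v ∈ comp F (mapH h C) := by
  have hN := cfg.Fnormal
  have key : ∀ U : Subgroup V, IsMinInv F U ∧ kerOn F U = C →
      U.map (MulDistribMulAction.toMonoidHom V h) ≤ comp F (mapH h C) := by
    rintro U ⟨hU, hker⟩
    have := d3_image hN C h U hU hker
    exact le_iSup₂ (f := fun (U : Subgroup V) (_ : IsMinInv F U ∧ kerOn F U = mapH h C) => U)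
      (U.map (MulDistribMulAction.toMonoidHom V h)) this
  have hle : (comp F C).map (MulDistribMulAction.toMonoidHom V h) ≤ comp F (mapH h C) := by
    show (⨆ (U : Subgroup V) (_ : IsMinInv F U ∧ kerOn F U = C), U).map
      (MulDistribMulAction.toMonoidHom V h) ≤ _
    rw [Subgroup.map_iSup]
    refine iSup_le fun U => ?_
    rw [Subgroup.map_iSup]
    exact iSup_le fun hU => key U hU
  exact hle (Subgroup.mem_map_of_mem (MulDistribMulAction.toMonoidHom V h) hv)

end decomp

end Cfsg.Agent.Lib.Helper66.S3
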