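import Cfsg.Agent.Lib.Helper66.S3Defs

/-!
# S3 hive (S4305, helper66), leaf S3-D4: `comp_smulA` (helper85)
-/

set_option autoImplicit false

namespace Cfsg.Agent.Lib.Helper66.S3

universe u

section decomp

variable {H V : Type u} [Group H] [CommGroup V] [MulDistribMulAction A3 H]
  [MulDistribMulAction A3 V] [MulDistribMulAction H V] {p r : ℕ} {F : Subgroup H}

omit [MulDistribMulAction A3 H] [MulDistribMulAction A3 V] in
theorem d4_mem_kerOn (F : Subgroup H) (U : Subgroup V) (x : H) :
    x ∈ kerOn F U ↔ x ∈ F ∧ ∀ u ∈ U, x • u = u := Iff.rfl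

/-- the image of a minimal `F`-invariant subgroup with kernel `C` under `a : A3`
(for `F` invariant under `A3`, compatible actions). -/
theorem d4_image (compat : ∀ (a : A3) (h : H) (v : V), a • (h • v) = (a • h) • (a • v))
    (hFA : ∀ a : A3, ∀ f ∈ F, a • f ∈ F) (C : Subgroup H) (a : A3) (U : Subgroup V)
    (hU : IsMinInv F U) (hker : kerOn F U = C) :
    IsMinInv F (U.map (MulDistribMulAction.toMonoidHom V a)) ∧
      kerOn F (U.map (MulDistribMulAction.toMonoidHom V a)) = mapA a C := by
  set φ : V →* V := MulDistribMulAction.toMonoidHom V a with hφdef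
  have hφ : ∀ v, φ v = a • v := fun v => rfl
  -- f • (a • u) = a • ((a⁻¹ • f) • u)
  have hmove : ∀ (f : H) (u : V), f • (a • u) = a • ((a⁻¹ • f) • u) := by
    intro f u
    rw [compat a (a⁻¹ • f) u, smul_inv_smul]
  constructor
  · obtain ⟨hne, hinv, hminU⟩ := hU
    refine ⟨?_, ?_, ?_⟩
    · intro hbot
      apply hne
      rw [Subgroup.eq_bot_iff_forall] at hbot ⊢
      intro u hu
      have := hbot (φ u) (Subgroup.mem_map_of_mem φ hu)
      rw [hφ] at this
      have h2 : a⁻¹ • (a • u) = a⁻¹ • (1 : V) := congrArg (a⁻¹ • ·) this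
      rwa [inv_smul_smul, smul_one] at h2
    · rintro f hf _ ⟨u, hu, rfl⟩
      refine ⟨(a⁻¹ • f) • u, hinv _ (hFA a⁻¹ f hf) u hu, ?_⟩
      rw [hφ, hφ, hmove]
    · intro W hWU hWinv
      have hW0le : W.comap φ ≤ U := by
        intro w hw
        have hw' : φ w ∈ U.map φ := hWU hw
        obtain ⟨u, hu, hu2⟩ := hw'
        have : u = w := by
          rw [hφ, hφ] at hu2
          have h2 : a⁻¹ • (a • u) = a⁻¹ • (a • w) := congrArg (a⁻¹ • ·) hu2
          rwa [inv_smul_smul, inv_smul_smul] at h2
        rw [← this]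
        exact hu
      have hW0inv : ∀ f ∈ F, ∀ w ∈ W.comap φ, f • w ∈ W.comap φ := by
        intro f hf w hw
        have hw' : a • w ∈ W := hw
        show a • (f • w) ∈ W
        rw [compat a f w]
        exact hWinv _ (hFA a f hf) _ hw'
      have hWmap : (W.comap φ).map φ = W := by
        ext w
        constructor
        · rintro ⟨w0, hw0, rfl⟩
          exact hw0
        · intro hw
          refine ⟨a⁻¹ • w, ?_, ?_⟩
          · show a • (a⁻¹ • w) ∈ W
            rw [smul_inv_smul]
            exact hw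
          · show a • (a⁻¹ • w) = w
            rw [smul_inv_smul]
      rcases hminU _ hW0le hW0inv with h0 | h0
      · left
        rw [← hWmap, h0, Subgroup.map_bot]
      · right
        rw [← hWmap, h0]
  · ext x
    constructor
    · intro hx
      obtain ⟨hxF, hx⟩ := (d4_mem_kerOn F _ x).mp hx
      have hc : a⁻¹ • x ∈ kerOn F U := by
        rw [d4_mem_kerOn]
        refine ⟨hFA a⁻¹ x hxF, fun u hu => ?_⟩
        have h1 := hx (φ u) (Subgroup.mem_map_of_mem φ hu)
        rw [hφ, hmove] at h1
        have h2 : a⁻¹ • (a • ((a⁻¹ • x) • u)) = a⁻¹ • (a • u) := congrArg (a⁻¹ • ·) h1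
        rwa [inv_smul_smul, inv_smul_smul] at h2
      rw [hker] at hc
      refine ⟨a⁻¹ • x, hc, ?_⟩
      show a • (a⁻¹ • x) = x
      rw [smul_inv_smul]
    · rintro ⟨c, hc, rfl⟩
      have hc' : c ∈ kerOn F U := by rw [hker]; exact hc
      obtain ⟨hcF, hcU⟩ := (d4_mem_kerOn F U c).mp hc'
      rw [d4_mem_kerOn]
      refine ⟨?_, ?_⟩
      · show a • c ∈ F
        exact hFA a c hcF
      · rintro _ ⟨u, hu, rfl⟩
        show (a • c) • (a • u) = a • u
        rw [← compat a c u, hcU u hu]

/-- D4 -/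
theorem comp_smulA (cfg : Config H V p r F) (C : Subgroup H) (a : A3) (v : V)
    (hv : v ∈ comp F C) : a • v ∈ comp F (mapA a C) := by
  have hcompat := cfg.hyp.compat
  have hFA := cfg.FA
  have key : ∀ U : Subgroup V, IsMinInv F U ∧ kerOn F U = C →
      U.map (MulDistribMulAction.toMonoidHom V a) ≤ comp F (mapA a C) := by
    rintro U ⟨hU, hker⟩
    have := d4_image hcompat hFA C a U hU hker
    exact le_iSup₂ (f := fun (U : Subgroup V) (_ : IsMinInv F U ∧ kerOn F U = mapA a C) => U)
      (U.map (MulDistribMulAction.toMonoidHom V a)) this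
  have hle : (comp F C).map (MulDistribMulAction.toMonoidHom V a) ≤ comp F (mapA a C) := by
    show (⨆ (U : Subgroup V) (_ : IsMinInv F U ∧ kerOn F U = C), U).map
      (MulDistribMulAction.toMonoidHom V a) ≤ _
    rw [Subgroup.map_iSup]
    refine iSup_le fun U => ?_
    rw [Subgroup.map_iSup]
    exact iSup_le fun hU => key U hU
  exact hle (Subgroup.mem_map_of_mem (MulDistribMulAction.toMonoidHom V a) hv)

end decomp

end Cfsg.Agent.Lib.Helper66.S3
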