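import Cfsg.Agent.Lib.Helper66.S3Defs

/-!
# S3 hive (S4305), leaf D2 `comp_fpf` (helper57)

An element `f ∈ F \ C` has no nontrivial fixed point on the component `comp F C`.
-/

set_option autoImplicit false

namespace Cfsg.Agent.Lib.Helper66.S3

universe u

section decomp

variable {H V : Type u} [Group H] [CommGroup V] [MulDistribMulAction A3 H]
  [MulDistribMulAction A3 V] [MulDistribMulAction H V] {p r : ℕ} {F : Subgroup H}

/-- The norm map `v ↦ ∏_{i<n} f^i • v`. -/
def s3d2_norm (f : H) (n : ℕ) : V →* V where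
  toFun v := ∏ i ∈ Finset.range n, (f ^ i) • v
  map_one' := by simp
  map_mul' := by
    intro a b
    simp [smul_mul', Finset.prod_mul_distrib]

theorem s3d2_norm_apply (f : H) (n : ℕ) (v : V) :
    s3d2_norm f n v = ∏ i ∈ Finset.range n, (f ^ i) • v := rfl

theorem s3d2_norm_fixed (f : H) (n : ℕ) (hn : f ^ n = 1) (v : V) :
    f • s3d2_norm f n v = s3d2_norm f n v := by
  rw [s3d2_norm_apply]
  have h1 : f • (∏ i ∈ Finset.range n, (f ^ i) • v) = ∏ i ∈ Finset.range n, (f ^ (i + 1)) • v := by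
    rw [← MulDistribMulAction.toMonoidHom_apply, map_prod]
    refine Finset.prod_congr rfl (fun i _ => ?_)
    rw [MulDistribMulAction.toMonoidHom_apply, ← mul_smul, pow_succ']
  rw [h1]
  have h2 := Finset.prod_range_succ' (fun i => (f ^ i) • v) n
  have h3 := Finset.prod_range_succ (fun i => (f ^ i) • v) n
  rw [h2] at h3
  simp only [pow_zero, one_smul, hn] at h3
  exact mul_right_cancel h3

theorem s3d2_norm_mem (f : H) (n : ℕ) (U : Subgroup V) (hU : ∀ i : ℕ, ∀ u ∈ U, (f ^ i) • u ∈ U)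
    (u : V) (hu : u ∈ U) : s3d2_norm f n u ∈ U := by
  rw [s3d2_norm_apply]
  exact Subgroup.prod_mem U (fun i _ => hU i u hu)

theorem s3d2_norm_of_fixed (f : H) (n : ℕ) (v : V) (hv : f • v = v) : s3d2_norm f n v = v ^ n := by
  rw [s3d2_norm_apply]
  have h : ∀ i : ℕ, (f ^ i) • v = v := by
    intro i
    induction i with
    | zero => simp
    | succ k ih => rw [pow_succ, mul_smul, hv, ih]
  simp [h]

/-- D2 -/
theorem comp_fpf (cfg : Config H V p r F) (C : Subgroup H) (f : H) (hf : f ∈ F) (hfC : f ∉ C)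
    (v : V) (hv : v ∈ comp F C) (hfv : f • v = v) : v = 1 := by
  haveI := cfg.hyp.finH
  have hfn : f ^ orderOf f = 1 := pow_orderOf_eq_one f
  have hker : comp (V := V) F C ≤ (s3d2_norm (V := V) f (orderOf f)).ker := by
    unfold comp
    apply iSup₂_le
    rintro U ⟨hU, hUC⟩
    intro u hu
    rw [MonoidHom.mem_ker]
    let W : Subgroup V :=
      { carrier := {w | w ∈ U ∧ f • w = w}
        one_mem' := ⟨U.one_mem, smul_one f⟩
        mul_mem' := by
          rintro a b ⟨ha, ha'⟩ ⟨hb, hb'⟩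
          exact ⟨U.mul_mem ha hb, by rw [smul_mul', ha', hb']⟩
        inv_mem' := by
          rintro a ⟨ha, ha'⟩
          exact ⟨U.inv_mem ha, by rw [smul_inv', ha']⟩ }
    have hWU : W ≤ U := fun w hw => hw.1
    have hWinv : ∀ g ∈ F, ∀ w ∈ W, g • w ∈ W := by
      intro g hg w hw
      refine ⟨hU.2.1 g hg w hw.1, ?_⟩
      rw [← mul_smul, cfg.Fcomm f hf g hg, mul_smul, hw.2]
    rcases hU.2.2 W hWU hWinv with h | h
    · have hmem : s3d2_norm f (orderOf f) u ∈ W :=
        ⟨s3d2_norm_mem f (orderOf f) U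
          (fun i w hw => hU.2.1 (f ^ i) (F.pow_mem hf i) w hw) u hu,
          s3d2_norm_fixed f (orderOf f) hfn u⟩
      rw [h] at hmem
      exact (Subgroup.mem_bot).mp hmem
    · exfalso
      apply hfC
      rw [← hUC]
      refine ⟨hf, fun w hw => ?_⟩
      have : w ∈ W := by rw [h]; exact hw
      exact this.2
  have h1 : s3d2_norm f (orderOf f) v = 1 := MonoidHom.mem_ker.mp (hker hv)
  rw [s3d2_norm_of_fixed f (orderOf f) v hfv] at h1
  have hdvd : orderOf f ∣ Nat.card F := by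
    have h := orderOf_dvd_natCard (⟨f, hf⟩ : F)
    rwa [Subgroup.orderOf_mk] at h
  have hcop : (orderOf f).Coprime p := Nat.Coprime.coprime_dvd_left hdvd cfg.Fcop
  have hvp : v ^ p = 1 := cfg.Vexp v
  have h2 : orderOf v ∣ Nat.gcd (orderOf f) p :=
    Nat.dvd_gcd (orderOf_dvd_of_pow_eq_one h1) (orderOf_dvd_of_pow_eq_one hvp)
  rw [Nat.Coprime] at hcop
  rw [hcop] at h2
  exact orderOf_eq_one_iff.mp (Nat.dvd_one.mp h2)

end decomp

end Cfsg.Agent.Lib.Helper66.S3
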