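import Cfsg.Agent.Lib.Helper66.S3Defs
import Cfsg.Agent.Lib.Helper66.S3.D2

/-!
# S3 hive (S4305), leaf D6 `comp_indep` (helper55)

The components `comp F C` are independent: `comp_indep_core` has `comp_fpf` (D2) as an explicit
hypothesis, `comp_indep` plugs in the landed D2.
-/

set_option autoImplicit false

namespace Cfsg.Agent.Lib.Helper66.S3

universe u

section decomp

variable {H V : Type u} [Group H] [CommGroup V] [MulDistribMulAction A3 H]
  [MulDistribMulAction A3 V] [MulDistribMulAction H V] {p r : ℕ} {F : Subgroup H}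

/-- Elements of `C` act trivially on the component of `C` (a private copy of D1). -/
theorem s3D6_triv (C : Subgroup H) (c : H) (hc : c ∈ C) (v : V) (hv : v ∈ comp F C) :
    c • v = v := by
  have hle : comp (V := V) F C ≤
      MonoidHom.eqLocus (MulDistribMulAction.toMonoidEnd H V c) (MonoidHom.id V) := by
    unfold comp
    refine iSup₂_le ?_
    rintro U ⟨-, hU⟩ u hu
    have hc' : c ∈ kerOn F U := hU ▸ hc
    exact hc'.2 u hu
  exact hle hv

/-- The component of `C` is `F`-invariant. -/
theorem s3D6_inv (C : Subgroup H) (f : H) (hf : f ∈ F) (v : V) (hv : v ∈ comp F C) :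
    f • v ∈ comp F C := by
  have hle : comp (V := V) F C ≤
      (comp (V := V) F C).comap (MulDistribMulAction.toMonoidEnd H V f) := by
    conv_lhs => unfold comp
    refine iSup₂_le ?_
    rintro U ⟨hU, hk⟩ u hu
    change f • u ∈ comp F C
    have h1 : f • u ∈ U := hU.2.1 f hf u hu
    exact (le_iSup₂ (f := fun (U : Subgroup V) (_ : IsMinInv F U ∧ kerOn F U = C) => U) U
      ⟨hU, hk⟩) h1
  exact hle hv

/-- A nontrivial component belongs to a subgroup of `F` (a private copy of D1'). -/
theorem s3D6_le (C : Subgroup H) (hC : comp (V := V) F C ≠ ⊥) : C ≤ F := by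
  by_contra hle
  apply hC
  unfold comp
  refine le_bot_iff.mp (iSup₂_le ?_)
  rintro U ⟨-, hk⟩
  exfalso
  apply hle
  rw [← hk]
  intro x hx
  exact hx.1

/-- No nontrivial relation between elements of distinct components. -/
theorem s3D6_rel
    (hD2 : ∀ (C : Subgroup H) (f : H), f ∈ F → f ∉ C → ∀ v ∈ comp (V := V) F C,
      f • v = v → v = 1) :
    ∀ (n : ℕ) (s : Finset (Subgroup H)) (v : Subgroup H → V), s.card = n →
      (∀ C ∈ s, v C ∈ comp F C) → ∏ C ∈ s, v C = 1 → ∀ C ∈ s, v C = 1 := by
  classical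
  intro n
  induction n using Nat.strong_induction_on with
  | _ n ih =>
    intro s v hn hv hprod
    by_contra hcon
    push Not at hcon
    obtain ⟨C1, hC1, hv1⟩ := hcon
    have h2 : ∃ C2 ∈ s, C2 ≠ C1 ∧ v C2 ≠ 1 := by
      by_contra h
      push Not at h
      apply hv1
      rw [← hprod]
      symm
      apply Finset.prod_eq_single_of_mem C1 hC1
      intro C hC hne
      exact h C hC hne
    obtain ⟨C2, hC2, hne, hv2⟩ := h2
    have key : ∀ A ∈ s, ∀ B ∈ s, A ≠ B → ∀ f ∈ F, f ∈ A → f ∉ B → v B = 1 := by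
      intro A hA B hB hAB f hfF hfA hfB
      have hv'A : f • v A * (v A)⁻¹ = 1 := by
        rw [s3D6_triv A f hfA (v A) (hv A hA), mul_inv_cancel]
      have hv'mem : ∀ C ∈ s.erase A, f • v C * (v C)⁻¹ ∈ comp F C := by
        intro C hC
        have hCs := Finset.mem_of_mem_erase hC
        exact Subgroup.mul_mem _ (s3D6_inv C f hfF _ (hv C hCs)) (Subgroup.inv_mem _ (hv C hCs))
      have hprod' : ∏ C ∈ s.erase A, (f • v C * (v C)⁻¹) = 1 := by
        have h1 : ∏ C ∈ s, (f • v C * (v C)⁻¹) = 1 := by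
          rw [Finset.prod_mul_distrib, Finset.prod_inv_distrib, ← Finset.smul_prod', hprod,
            smul_one, inv_one, mul_one]
        rw [← Finset.mul_prod_erase s (fun C => f • v C * (v C)⁻¹) hA, hv'A, one_mul] at h1
        exact h1
      have hcard : (s.erase A).card < n := by
        rw [Finset.card_erase_of_mem hA, hn]
        have : 0 < s.card := Finset.card_pos.mpr ⟨A, hA⟩
        omega
      have h3 := ih _ hcard (s.erase A) (fun C => f • v C * (v C)⁻¹) rfl hv'mem hprod' B
        (Finset.mem_erase.mpr ⟨hAB.symm, hB⟩)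
      have hfix : f • v B = v B := mul_inv_eq_one.mp h3
      exact hD2 B f hfF hfB (v B) (hv B hB) hfix
    have hF1 : C1 ≤ F := s3D6_le (V := V) C1 (fun h => hv1 (by
      have h4 := hv C1 hC1
      rw [h] at h4
      exact Subgroup.mem_bot.mp h4))
    have hF2 : C2 ≤ F := s3D6_le (V := V) C2 (fun h => hv2 (by
      have h4 := hv C2 hC2
      rw [h] at h4
      exact Subgroup.mem_bot.mp h4))
    by_cases h12 : C1 ≤ C2
    · have h21 : ¬ C2 ≤ C1 := fun h => hne (le_antisymm h h12)
      obtain ⟨f, hf2, hf1⟩ := SetLike.not_le_iff_exists.mp h21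
      exact hv1 (key C2 hC2 C1 hC1 hne f (hF2 hf2) hf2 hf1)
    · obtain ⟨f, hf1, hf2⟩ := SetLike.not_le_iff_exists.mp h12
      exact hv2 (key C1 hC1 C2 hC2 hne.symm f (hF1 hf1) hf1 hf2)

/-- D6 with D2 as a hypothesis. -/
theorem comp_indep_core [Finite H]
    (hD2 : ∀ (C : Subgroup H) (f : H), f ∈ F → f ∉ C → ∀ v ∈ comp (V := V) F C,
      f • v = v → v = 1) :
    iSupIndep (fun C : Subgroup H => comp (V := V) F C) := by
  classical
  haveI : Fintype (Subgroup H) := Fintype.ofFinite _
  rw [iSupIndep_def]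
  intro C0
  rw [Subgroup.disjoint_def]
  intro x hx0 hx
  have hrep : ∃ v : Subgroup H → V, (∀ C, v C ∈ comp F C) ∧ v C0 = 1 ∧ ∏ C, v C = x := by
    refine Subgroup.iSup_induction
      (C := fun x => ∃ v : Subgroup H → V, (∀ C, v C ∈ comp F C) ∧ v C0 = 1 ∧ ∏ C, v C = x)
      _ hx ?_ ?_ ?_
    · intro j y hy
      by_cases hj : j = C0
      · have hy1 : y = 1 := by simpa [hj] using hy
        exact ⟨1, fun C => Subgroup.one_mem _, rfl, by simp [hy1]⟩
      · have hy' : y ∈ comp F j := by simpa [hj] using hy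
        refine ⟨Pi.mulSingle j y, ?_, ?_, ?_⟩
        · intro C
          by_cases hC : C = j
          · subst hC
            simpa using hy'
          · rw [Pi.mulSingle_eq_of_ne hC]
            exact Subgroup.one_mem _
        · exact Pi.mulSingle_eq_of_ne (Ne.symm hj) _
        · exact Finset.prod_pi_mulSingle' j y Finset.univ |>.trans (by simp)
    · exact ⟨1, fun C => Subgroup.one_mem _, rfl, by simp⟩
    · rintro a b ⟨va, ha1, ha2, ha3⟩ ⟨vb, hb1, hb2, hb3⟩
      refine ⟨va * vb, fun C => Subgroup.mul_mem _ (ha1 C) (hb1 C), by simp [ha2, hb2], ?_⟩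
      rw [← ha3, ← hb3, ← Finset.prod_mul_distrib]
      rfl
  obtain ⟨v, hvmem, hv0, hvx⟩ := hrep
  have hmem' : ∀ C ∈ (Finset.univ : Finset (Subgroup H)),
      Function.update v C0 x⁻¹ C ∈ comp F C := by
    intro C _
    by_cases hC : C = C0
    · subst hC
      rw [Function.update_self]
      exact Subgroup.inv_mem _ hx0
    · rw [Function.update_of_ne hC]
      exact hvmem C
  have hprod' : ∏ C, Function.update v C0 x⁻¹ C = 1 := by
    rw [Finset.prod_update_of_mem (Finset.mem_univ C0)]
    have h5 : ∏ C ∈ Finset.univ \ {C0}, v C = x := by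
      rw [← hvx, Finset.prod_eq_mul_prod_sdiff_singleton_of_mem (Finset.mem_univ C0) v, hv0, one_mul]
    rw [h5, inv_mul_cancel]
  have h6 := s3D6_rel hD2 _ Finset.univ (Function.update v C0 x⁻¹) rfl hmem' hprod' C0
    (Finset.mem_univ _)
  rw [Function.update_self] at h6
  exact inv_eq_one.mp h6

/-- D6 -/
theorem comp_indep (cfg : Config H V p r F) :
    iSupIndep (fun C : Subgroup H => comp (V := V) F C) := by
  haveI : Finite H := cfg.hyp.finH
  exact comp_indep_core (fun C f hf hfC v hv hfv => comp_fpf cfg C f hf hfC v hv hfv)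

end decomp

end Cfsg.Agent.Lib.Helper66.S3
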