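import Cfsg.Agent.Lib.Helper66.S3.D3
import Cfsg.Agent.Lib.Helper66.S3.D4
import Cfsg.Agent.Lib.Helper66.S3.D6
import Cfsg.Agent.Lib.Helper24.S3D7core

/-!
# S3 hive (S4305, owner helper66): leaf D7 `comp_trans` (helper24)

The wired form: `comp_trans_core` (Lib/Helper24/S3D7core.lean) applied to the landed leaves
D3 `comp_smulH`, D4 `comp_smulA`, D6 `comp_indep`.
-/

set_option autoImplicit false

namespace Cfsg.Agent.Lib.Helper66.S3

universe u

section decomp

variable {H V : Type u} [Group H] [CommGroup V] [MulDistribMulAction A3 H]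
  [MulDistribMulAction A3 V] [MulDistribMulAction H V] {p r : ℕ} {F : Subgroup H}

/-- D7 -/
theorem comp_trans (cfg : Config H V p r F) (C C' : Subgroup H) (hC : comp (V := V) F C ≠ ⊥)
    (hC' : comp (V := V) F C' ≠ ⊥) : ∃ (a : A3) (h : H), C' = mapA a (mapH h C) :=
  comp_trans_core cfg (fun C h v hv => comp_smulH cfg C h v hv)
    (fun C a v hv => comp_smulA cfg C a v hv) (comp_indep cfg) C C' hC hC'

end decomp

end Cfsg.Agent.Lib.Helper66.S3
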