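import Cfsg.Agent.Lib.Helper66.S3Defs

/-! # S3 hive (S4305, helper66): leaf S3-HH `lemHH` (written by helper8) -/

set_option autoImplicit false

namespace Cfsg.Agent.Lib.Helper66.S3

/-- aux: `σ³ = 1`. -/
theorem hh_sig_cube : sig * sig * sig = 1 := by decide

/-- HH: the module version of `x` commutes with `σ x` for an fpf `σ` of order 3. -/
theorem lemHH {H V : Type*} [Group H] [CommGroup V] [Finite V] [MulDistribMulAction A3 H]
    [MulDistribMulAction A3 V] [MulDistribMulAction H V]
    (compat : ∀ (a : A3) (h : H) (v : V), a • (h • v) = (a • h) • (a • v))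
    (W : Subgroup V) (hWH : ∀ h : H, ∀ w ∈ W, h • w ∈ W) (hWs : ∀ w ∈ W, sig • w ∈ W)
    (hfix : ∀ w ∈ W, sig • w = w → w = 1) (h : H) (w : V) (hw : w ∈ W)
    (hc : (h * (sig • h)⁻¹) • w = w) : (sig • (h * (sig • h)⁻¹)) • w = w := by
  -- basic facts on `σ`
  have h3 : ∀ v : V, sig • sig • sig • v = v := by
    intro v
    rw [← mul_smul, ← mul_smul, hh_sig_cube, one_smul]
  have h3H : ∀ x : H, sig • sig • sig • x = x := by
    intro x
    rw [← mul_smul, ← mul_smul, hh_sig_cube, one_smul]
  have hWss : ∀ u ∈ W, sig • sig • u ∈ W := fun u hu => hWs _ (hWs _ hu)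
  -- the norm vanishes on `W`
  have hN : ∀ u ∈ W, u * sig • u * sig • sig • u = 1 := by
    intro u hu
    apply hfix _ (W.mul_mem (W.mul_mem hu (hWs u hu)) (hWss u hu))
    rw [smul_mul', smul_mul', h3 u]
    rw [mul_comm (sig • u * sig • sig • u) u, mul_assoc]
  set c : H := h * (sig • h)⁻¹ with hcdef
  set d : H := h * (sig • sig • h)⁻¹ with hddef
  have hd : d = c * sig • c := by
    rw [hcdef, hddef, smul_mul', smul_inv']
    group
  -- the twisted norm relation
  have hL : ∀ v ∈ W, v * c • sig • v * d • sig • sig • v = 1 := by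
    intro v hv
    have hu : h⁻¹ • v ∈ W := hWH _ _ hv
    have hNu := hN _ hu
    have e := congrArg (fun t => h • t) hNu
    simp only [smul_mul', smul_one, smul_inv_smul] at e
    have e1 : h • sig • h⁻¹ • v = c • sig • v := by
      rw [compat, smul_inv', ← mul_smul]
    have e2 : h • sig • sig • h⁻¹ • v = d • sig • sig • v := by
      rw [compat, compat, smul_inv', smul_inv', ← mul_smul]
    rw [e1, e2] at e
    exact e
  -- key step: if `c` fixes `v ∈ W` then `c` fixes `σ v`
  have hstep : ∀ v ∈ W, c • v = v → c • sig • v = sig • v := by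
    intro v hv hcv
    have h1 := hL _ (hWss v hv)
    rw [h3 v] at h1
    -- h1 : σσv * c•v * d • σ • σσ v = 1   with σ σ σ σ v = σ v
    rw [hcv] at h1
    have h2 := hN v hv
    -- from h1, h2: d • σ v = σ v
    have h5 : d • sig • v = sig • v := by
      have : sig • sig • v * v * d • sig • v = v * sig • v * sig • sig • v := by rw [h1, h2]
      have h6 : sig • sig • v * v * d • sig • v = sig • sig • v * v * sig • v := by
        rw [this]; rw [mul_comm (v * sig • v) (sig • sig • v), mul_assoc]
      exact mul_left_cancel h6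
    have h7 : (sig • c) • sig • v = sig • v := by
      rw [← compat, hcv]
    rw [hd, mul_smul, h7] at h5
    exact h5
  have hs1 : c • sig • w = sig • w := hstep w hw hc
  have hs2 : c • sig • sig • w = sig • sig • w := hstep _ (hWs w hw) hs1
  calc (sig • c) • w = (sig • c) • sig • (sig • sig • w) := by rw [h3 w]
    _ = sig • (c • sig • sig • w) := by rw [compat]
    _ = sig • sig • sig • w := by rw [hs2]
    _ = w := h3 w

end Cfsg.Agent.Lib.Helper66.S3
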