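import Cfsg.Agent.Lib.Helper66.S3Defs

/-! # S3 hive (S4305), leaf D1 `comp_triv` (helper33). -/

set_option autoImplicit false

namespace Cfsg.Agent.Lib.Helper66.S3

universe u

variable {H V : Type u} [Group H] [CommGroup V] [MulDistribMulAction A3 H]
  [MulDistribMulAction A3 V] [MulDistribMulAction H V] {p r : ℕ} {F : Subgroup H}

/-- D1 -/
theorem comp_triv (C : Subgroup H) (c : H) (hc : c ∈ C) (v : V) (hv : v ∈ comp F C) :
    c • v = v := by
  let S : Subgroup V :=
    { carrier := {v | c • v = v}
      one_mem' := smul_one c
      mul_mem' := by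
        intro x y hx hy
        show c • (x * y) = x * y
        rw [smul_mul', hx, hy]
      inv_mem' := by
        intro x hx
        show c • x⁻¹ = x⁻¹
        rw [smul_inv', hx] }
  have hle : comp F C ≤ S := by
    unfold comp
    apply iSup_le
    intro U
    apply iSup_le
    rintro ⟨_, hker⟩
    intro u hu
    have hcU : c ∈ kerOn F U := by rw [hker]; exact hc
    exact hcU.2 u hu
  exact hle hv

end Cfsg.Agent.Lib.Helper66.S3
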