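import Cfsg.Agent.Lib.Helper66.S3Defs
import Cfsg.Agent.Lib.Helper66.S3.D3
import Cfsg.Agent.Lib.Helper66.S3.D4

/-!
# S3 hive (S4305, helper66), leaf S3-D5 `iSup_comp` (helper19): the components span `V`.
-/

set_option autoImplicit false

namespace Cfsg.Agent.Lib.Helper66.S3

universe u

section decomp

variable {H V : Type u} [Group H] [CommGroup V] [MulDistribMulAction A3 H]
  [MulDistribMulAction A3 V] [MulDistribMulAction H V] {p r : ℕ} {F : Subgroup H}

omit [MulDistribMulAction A3 H] [MulDistribMulAction A3 V] in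
/-- a finite nontrivial `V` has a minimal nontrivial `F`-invariant subgroup -/
theorem d5_exists_isMinInv [Finite V] (F : Subgroup H) (hV : ∃ v : V, v ≠ 1) :
    ∃ U : Subgroup V, IsMinInv F U := by
  classical
  have hfin : Set.Finite {U : Subgroup V | U ≠ ⊥ ∧ ∀ f ∈ F, ∀ u ∈ U, f • u ∈ U} := Set.toFinite _
  have hne : ({U : Subgroup V | U ≠ ⊥ ∧ ∀ f ∈ F, ∀ u ∈ U, f • u ∈ U}).Nonempty := by
    refine ⟨⊤, ?_, fun f _ u _ => Subgroup.mem_top _⟩
    obtain ⟨v, hv⟩ := hV
    intro h
    apply hv
    have : v ∈ (⊤ : Subgroup V) := Subgroup.mem_top v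
    rw [h] at this
    exact Subgroup.mem_bot.mp this
  obtain ⟨U, hU, hmin⟩ := hfin.exists_minimalFor (fun U : Subgroup V => Nat.card ↥U) _ hne
  refine ⟨U, hU.1, hU.2, fun W hWU hW => ?_⟩
  by_cases hW0 : W = ⊥
  · exact Or.inl hW0
  · right
    have h1 : Nat.card ↥U ≤ Nat.card ↥W := hmin ⟨hW0, hW⟩ (Subgroup.card_le_of_le hWU)
    exact Subgroup.eq_of_le_of_card_ge hWU h1

/-- D5 core: given the `H`- and `A3`-equivariance of components (D3, D4) the components span `V`. -/
theorem iSup_comp_core (cfg : Config H V p r F)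
    (hD3 : ∀ (C : Subgroup H) (h : H) (v : V), v ∈ comp F C → h • v ∈ comp F (mapH h C))
    (hD4 : ∀ (C : Subgroup H) (a : A3) (v : V), v ∈ comp F C → a • v ∈ comp F (mapA a C)) :
    ⨆ C : Subgroup H, comp (V := V) F C = ⊤ := by
  haveI := cfg.hyp.finV
  -- `V` is nontrivial
  have hV : ∃ v : V, v ≠ 1 := by
    by_contra hno
    push Not at hno
    obtain ⟨x, y, hxy⟩ := cfg.nonab
    have hx : x = 1 := cfg.faithful x (fun v => by rw [hno (x • v), hno v])
    have hy : y = 1 := cfg.faithful y (fun v => by rw [hno (y • v), hno v])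
    apply hxy
    rw [hx, hy]
  obtain ⟨U, hU⟩ := d5_exists_isMinInv (V := V) F hV
  set T : Subgroup V := ⨆ C : Subgroup H, comp (V := V) F C with hT
  have hUT : U ≤ T := by
    have h1 : U ≤ comp F (kerOn F U) := by
      unfold comp
      exact le_iSup₂_of_le U ⟨hU, rfl⟩ le_rfl
    exact h1.trans (le_iSup (fun C : Subgroup H => comp (V := V) F C) (kerOn F U))
  have hTne : T ≠ ⊥ := by
    intro h
    apply hU.1
    rw [eq_bot_iff, ← h]
    exact hUT
  have hTH : ∀ h : H, ∀ u ∈ T, h • u ∈ T := by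
    intro h
    have : T ≤ T.comap (MulDistribMulAction.toMonoidHom V h) := by
      rw [hT]
      refine iSup_le fun C v hv => ?_
      rw [Subgroup.mem_comap, MulDistribMulAction.toMonoidHom_apply]
      exact (le_iSup (fun C : Subgroup H => comp (V := V) F C) (mapH h C)) (hD3 C h v hv)
    intro u hu
    have := this hu
    rwa [Subgroup.mem_comap, MulDistribMulAction.toMonoidHom_apply] at this
  have hTA : ∀ a : A3, ∀ u ∈ T, a • u ∈ T := by
    intro a
    have : T ≤ T.comap (MulDistribMulAction.toMonoidHom V a) := by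
      rw [hT]
      refine iSup_le fun C v hv => ?_
      rw [Subgroup.mem_comap, MulDistribMulAction.toMonoidHom_apply]
      exact (le_iSup (fun C : Subgroup H => comp (V := V) F C) (mapA a C)) (hD4 C a v hv)
    intro u hu
    have := this hu
    rwa [Subgroup.mem_comap, MulDistribMulAction.toMonoidHom_apply] at this
  rcases cfg.hyp.irr T hTH hTA with h | h
  · exact absurd h hTne
  · exact h

/-- D5 -/
theorem iSup_comp (cfg : Config H V p r F) : ⨆ C : Subgroup H, comp (V := V) F C = ⊤ :=
  iSup_comp_core cfg (fun C h v hv => comp_smulH cfg C h v hv)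
    (fun C a v hv => comp_smulA cfg C a v hv)

end decomp

end Cfsg.Agent.Lib.Helper66.S3
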