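import Cfsg.Agent.Lib.Helper66.S3Defs
import Cfsg.Agent.Lib.Helper66.S3.D2

/-!
# S3 hive (S4305, helper66), leaf S3-SL: `lemSL` (helper27)

`W = comp F C` is `σ`-invariant (private copy of D4), `F`-invariant, and `N(w) = w (σw) (σ²w) = 1` on `W`.
For `x ∈ F`, `a = x⁻¹ σx`, `b = x⁻¹ σ²x`: `(a u)(b σu) = u σu` on `W`.  If `a ∉ C` then `b` is fixed-point-free on
`W`, hence `σ` commutes with `x` on `W`, i.e. `a` fixes `W` pointwise, so `a ∈ C` by D2.
-/

set_option autoImplicit false

namespace Cfsg.Agent.Lib.Helper66.S3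

universe u

section decomp

variable {H V : Type u} [Group H] [CommGroup V] [MulDistribMulAction A3 H]
  [MulDistribMulAction A3 V] [MulDistribMulAction H V] {p r : ℕ} {F : Subgroup H}

omit [MulDistribMulAction A3 H] [MulDistribMulAction A3 V] in
theorem sl_mem_kerOn (F : Subgroup H) (U : Subgroup V) (x : H) :
    x ∈ kerOn F U ↔ x ∈ F ∧ ∀ u ∈ U, x • u = u := Iff.rfl

/-- the image of a minimal `F`-invariant subgroup with kernel `C` under `a : A3`
(for `F` `A3`-invariant, compatible actions). -/
theorem sl_image (compat : ∀ (a : A3) (h : H) (v : V), a • (h • v) = (a • h) • (a • v))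
    (hFA : ∀ a : A3, ∀ f ∈ F, a • f ∈ F) (C : Subgroup H) (a : A3) (U : Subgroup V)
    (hU : IsMinInv F U) (hker : kerOn F U = C) :
    IsMinInv F (U.map (MulDistribMulAction.toMonoidHom V a)) ∧
      kerOn F (U.map (MulDistribMulAction.toMonoidHom V a)) = mapA a C := by
  set φ : V →* V := MulDistribMulAction.toMonoidHom V a with hφdef
  have hφ : ∀ v, φ v = a • v := fun v => rfl
  -- `x • (a • u) = a • ((a⁻¹ • x) • u)`
  have hsw : ∀ (x : H) (u : V), x • (a • u) = a • ((a⁻¹ • x) • u) := by
    intro x u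
    rw [compat a (a⁻¹ • x) u, smul_inv_smul]
  constructor
  · obtain ⟨hne, hinv, hminU⟩ := hU
    refine ⟨?_, ?_, ?_⟩
    · intro hbot
      apply hne
      rw [Subgroup.eq_bot_iff_forall] at hbot ⊢
      intro u hu
      have := hbot (φ u) (Subgroup.mem_map_of_mem φ hu)
      rw [hφ] at this
      have h2 : a⁻¹ • (a • u) = a⁻¹ • (1 : V) := congrArg (a⁻¹ • ·) this
      rwa [inv_smul_smul, smul_one] at h2
    · rintro f hf _ ⟨u, hu, rfl⟩
      refine ⟨(a⁻¹ • f) • u, hinv _ (hFA a⁻¹ f hf) u hu, ?_⟩
      rw [hφ, hφ, hsw]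
    · intro W hWU hWinv
      have hW0le : W.comap φ ≤ U := by
        intro w hw
        have hw' : φ w ∈ U.map φ := hWU hw
        obtain ⟨u, hu, hu2⟩ := hw'
        have : u = w := by
          rw [hφ, hφ] at hu2
          have h2 : a⁻¹ • (a • u) = a⁻¹ • (a • w) := congrArg (a⁻¹ • ·) hu2
          rwa [inv_smul_smul, inv_smul_smul] at h2
        rw [← this]
        exact hu
      have hW0inv : ∀ f ∈ F, ∀ w ∈ W.comap φ, f • w ∈ W.comap φ := by
        intro f hf w hw
        have hw' : a • w ∈ W := hw
        show a • (f • w) ∈ W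
        rw [compat a f w]
        exact hWinv _ (hFA a f hf) _ hw'
      have hWmap : (W.comap φ).map φ = W := by
        ext w
        constructor
        · rintro ⟨w0, hw0, rfl⟩
          exact hw0
        · intro hw
          refine ⟨a⁻¹ • w, ?_, ?_⟩
          · show a • (a⁻¹ • w) ∈ W
            rw [smul_inv_smul]
            exact hw
          · show a • (a⁻¹ • w) = w
            rw [smul_inv_smul]
      rcases hminU _ hW0le hW0inv with h0 | h0
      · left
        rw [← hWmap, h0, Subgroup.map_bot]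
      · right
        rw [← hWmap, h0]
  · ext x
    constructor
    · intro hx
      obtain ⟨hxF, hx⟩ := (sl_mem_kerOn F _ x).mp hx
      have hc : a⁻¹ • x ∈ kerOn F U := by
        rw [sl_mem_kerOn]
        refine ⟨hFA a⁻¹ x hxF, fun u hu => ?_⟩
        have := hx (φ u) (Subgroup.mem_map_of_mem φ hu)
        rw [hφ, hsw] at this
        have h2 : a⁻¹ • (a • ((a⁻¹ • x) • u)) = a⁻¹ • (a • u) := congrArg (a⁻¹ • ·) this
        rwa [inv_smul_smul, inv_smul_smul] at h2
      rw [hker] at hc
      refine ⟨a⁻¹ • x, hc, ?_⟩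
      show a • (a⁻¹ • x) = x
      rw [smul_inv_smul]
    · rintro ⟨c, hc, rfl⟩
      have hc' : c ∈ kerOn F U := by rw [hker]; exact hc
      obtain ⟨hcF, hcU⟩ := (sl_mem_kerOn F U c).mp hc'
      rw [sl_mem_kerOn]
      refine ⟨?_, ?_⟩
      · show a • c ∈ F
        exact hFA a c hcF
      · rintro _ ⟨u, hu, rfl⟩
        show (a • c) • (a • u) = a • u
        rw [← compat a c u, hcU u hu]

/-- private copy of D4 (`comp_smulA`) under a fresh name -/
theorem sl_smulA (cfg : Config H V p r F) (C : Subgroup H) (a : A3) (v : V)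
    (hv : v ∈ comp F C) : a • v ∈ comp F (mapA a C) := by
  have key : ∀ U : Subgroup V, IsMinInv F U ∧ kerOn F U = C →
      U.map (MulDistribMulAction.toMonoidHom V a) ≤ comp F (mapA a C) := by
    rintro U ⟨hU, hker⟩
    have := sl_image cfg.hyp.compat cfg.FA C a U hU hker
    exact le_iSup₂ (f := fun (U : Subgroup V) (_ : IsMinInv F U ∧ kerOn F U = mapA a C) => U)
      (U.map (MulDistribMulAction.toMonoidHom V a)) this
  have hle : (comp F C).map (MulDistribMulAction.toMonoidHom V a) ≤ comp F (mapA a C) := by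
    show (⨆ (U : Subgroup V) (_ : IsMinInv F U ∧ kerOn F U = C), U).map
      (MulDistribMulAction.toMonoidHom V a) ≤ _
    rw [Subgroup.map_iSup]
    refine iSup_le fun U => ?_
    rw [Subgroup.map_iSup]
    exact iSup_le fun hU => key U hU
  exact hle (Subgroup.mem_map_of_mem (MulDistribMulAction.toMonoidHom V a) hv)


theorem sl_sig_cube : sig * sig * sig = 1 := by decide

omit [MulDistribMulAction A3 H] [MulDistribMulAction A3 V] in
/-- `comp F C` is `F`-invariant. -/
theorem sl_smulF (C : Subgroup H) (f : H) (hf : f ∈ F) (v : V) (hv : v ∈ comp F C) :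
    f • v ∈ comp F C := by
  have hle : (comp F C).map (MulDistribMulAction.toMonoidHom V f) ≤ comp F C := by
    show (⨆ (U : Subgroup V) (_ : IsMinInv F U ∧ kerOn F U = C), U).map
      (MulDistribMulAction.toMonoidHom V f) ≤ _
    rw [Subgroup.map_iSup]
    refine iSup_le fun U => ?_
    rw [Subgroup.map_iSup]
    refine iSup_le fun hU => ?_
    refine le_trans ?_ (le_iSup₂ (f := fun (U : Subgroup V) (_ : IsMinInv F U ∧ kerOn F U = C) => U) U hU)
    rintro _ ⟨u, hu, rfl⟩
    exact hU.1.2.1 f hf u hu
  exact hle (Subgroup.mem_map_of_mem (MulDistribMulAction.toMonoidHom V f) hv)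

/-- SL: the field-free semilinear lemma. -/
theorem lemSL (cfg : Config H V p r F) (C : Subgroup H) (hC0 : comp (V := V) F C ≠ ⊥)
    (hC : mapA sig C = C)
    (hW : ∀ v ∈ comp (V := V) F C, sig • v = v → v = 1) : ∀ f ∈ F, f⁻¹ * sig • f ∈ C := by
  intro x hx
  by_contra haC
  set W : Subgroup V := comp F C with hWdef
  have compat := cfg.hyp.compat
  -- invariance of `W`
  have hsW : ∀ w ∈ W, sig • w ∈ W := by
    intro w hw
    have := sl_smulA cfg C sig w hw
    rwa [hC] at this
  have hFW : ∀ f ∈ F, ∀ w ∈ W, f • w ∈ W := fun f hf w hw => sl_smulF C f hf w hw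
  have hs3 : ∀ v : V, sig • sig • sig • v = v := by
    intro v
    rw [← mul_smul, ← mul_smul, sl_sig_cube, one_smul]
  -- the norm is trivial on `W`
  have hN : ∀ w ∈ W, w * sig • w * sig • sig • w = 1 := by
    intro w hw
    apply hW _ (W.mul_mem (W.mul_mem hw (hsW w hw)) (hsW _ (hsW w hw)))
    rw [smul_mul', smul_mul', hs3]
    rw [mul_comm (sig • w * sig • sig • w) w, mul_assoc]
  obtain ⟨a, ha⟩ : ∃ a : H, a = x⁻¹ * sig • x := ⟨_, rfl⟩
  obtain ⟨b, hb⟩ : ∃ b : H, b = x⁻¹ * sig • sig • x := ⟨_, rfl⟩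
  rw [← ha] at haC
  have hsx : sig • x ∈ F := cfg.FA sig x hx
  have hssx : sig • sig • x ∈ F := cfg.FA sig _ hsx
  have haF : a ∈ F := by rw [ha]; exact F.mul_mem (F.inv_mem hx) hsx
  have hbF : b ∈ F := by rw [hb]; exact F.mul_mem (F.inv_mem hx) hssx
  -- the basic relation
  have hrel0 : ∀ w ∈ W, a • (sig • w) * b • (sig • sig • w) = sig • w * sig • sig • w := by
    intro w hw
    have h1 := hN (x • w) (hFW x hx w hw)
    have h2 : x • w * x • (sig • w) * x • (sig • sig • w) = 1 := by
      rw [← smul_mul', ← smul_mul', hN w hw, smul_one]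
    have h3 : sig • (x • w) = (sig • x) • (sig • w) := compat sig x w
    have h4 : sig • sig • (x • w) = (sig • sig • x) • (sig • sig • w) := by
      rw [h3, compat sig (sig • x) (sig • w)]
    rw [h4, h3] at h1
    have h5 : (sig • x) • (sig • w) * (sig • sig • x) • (sig • sig • w) =
        x • (sig • w) * x • (sig • sig • w) := by
      have e1 : x • w * ((sig • x) • (sig • w) * (sig • sig • x) • (sig • sig • w)) = 1 := by
        rw [← mul_assoc]; exact h1
      have e2 : x • w * (x • (sig • w) * x • (sig • sig • w)) = 1 := by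
        rw [← mul_assoc]; exact h2
      exact mul_left_cancel (e1.trans e2.symm)
    have h6 := congrArg (x⁻¹ • ·) h5
    simp only [smul_mul', inv_smul_smul] at h6
    rw [ha, hb, mul_smul, mul_smul]
    exact h6
  have hrel : ∀ u ∈ W, a • u * b • (sig • u) = u * sig • u := by
    intro u hu
    have := hrel0 (sig • sig • u) (hsW _ (hsW u hu))
    rwa [hs3] at this
  -- `b` is fixed-point-free on `W`
  have hbinj : ∀ u ∈ W, b • u = u → u = 1 := by
    intro u hu hbu
    have hw : sig • sig • u ∈ W := hsW _ (hsW u hu)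
    have h1 := hrel _ hw
    rw [hs3, hbu] at h1
    have h2 : a • (sig • sig • u) = sig • sig • u := mul_right_cancel h1
    have h3 := comp_fpf cfg C a haF haC _ hw h2
    have h4 := congrArg (sig • ·) h3
    simp only [hs3, smul_one] at h4
    exact h4
  -- `σ` commutes with `x` on `W`
  have hcomm : ∀ w ∈ W, x • (sig • w) = sig • (x • w) := by
    intro w hw
    have hxa : x * a = a * x := cfg.Fcomm x hx a haF
    have hxb : x * b = b * x := cfg.Fcomm x hx b hbF
    have e1 : a • (x • w) * b • (x • (sig • w)) = x • w * x • (sig • w) := by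
      have := congrArg (x • ·) (hrel w hw)
      simp only [smul_mul'] at this
      rw [← mul_smul x a, ← mul_smul x b, hxa, hxb, mul_smul a x, mul_smul b x] at this
      exact this
    have e2 := hrel (x • w) (hFW x hx w hw)
    set y1 : V := x • (sig • w) with hy1
    set y2 : V := sig • (x • w) with hy2
    have hy1W : y1 ∈ W := hFW x hx _ (hsW w hw)
    have hy2W : y2 ∈ W := hsW _ (hFW x hx w hw)
    have hd : b • (y1 * y2⁻¹) = y1 * y2⁻¹ := by
      rw [smul_mul', smul_inv']
      -- from e1, e2
      have e3 : b • y1 * y2 = b • y2 * y1 := by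
        have f1 : (a • (x • w) * b • y1) * (x • w * y2) = (a • (x • w) * b • y2) * (x • w * y1) := by
          rw [e1, e2]; exact mul_comm _ _
        have f2 : (a • (x • w) * x • w) * (b • y1 * y2) = (a • (x • w) * x • w) * (b • y2 * y1) := by
          calc (a • (x • w) * x • w) * (b • y1 * y2)
              = (a • (x • w) * b • y1) * (x • w * y2) := by
                simp only [mul_assoc, mul_left_comm, mul_comm]
            _ = (a • (x • w) * b • y2) * (x • w * y1) := f1
            _ = (a • (x • w) * x • w) * (b • y2 * y1) := by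
                simp only [mul_assoc, mul_left_comm, mul_comm]
        exact mul_left_cancel f2
      rw [← div_eq_mul_inv, ← div_eq_mul_inv, div_eq_div_iff_mul_eq_mul, e3, mul_comm]
    have hd1 := hbinj _ (W.mul_mem hy1W (W.inv_mem hy2W)) hd
    exact mul_inv_eq_one.mp hd1
  -- so `a` fixes `W` pointwise
  have hafix : ∀ w ∈ W, a • (sig • w) = sig • w := by
    intro w hw
    have h1 := hcomm w hw
    rw [compat sig x w] at h1
    rw [ha, mul_smul, ← h1, inv_smul_smul]
  -- a nontrivial element of `W`
  obtain ⟨w0, hw0, hw0ne⟩ : ∃ w0 ∈ W, w0 ≠ 1 := by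
    by_contra hcon
    push Not at hcon
    apply hC0
    rw [Subgroup.eq_bot_iff_forall]
    exact hcon
  have h1 := comp_fpf cfg C a haF haC _ (hsW w0 hw0) (hafix w0 hw0)
  apply hw0ne
  have h2 := congrArg (fun v => sig • sig • v) h1
  simp only [hs3, smul_one] at h2
  exact h2

end decomp

end Cfsg.Agent.Lib.Helper66.S3
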