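import Cfsg.Agent.Lib.Helper66.S3Defs

set_option autoImplicit false

namespace Cfsg.Agent.Lib.Helper66.S3

universe u

section decomp

variable {H V : Type u} [Group H] [CommGroup V] [MulDistribMulAction A3 H]
  [MulDistribMulAction A3 V] [MulDistribMulAction H V] {p r : ℕ} {F : Subgroup H}

/-- private copy of D1' for ZF: a nontrivial component has its label inside `F`. -/
theorem zf_comp_le (C : Subgroup H) (hC : comp (V := V) F C ≠ ⊥) : C ≤ F := by
  classical
  by_contra hCF
  apply hC
  unfold comp
  rw [eq_bot_iff]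
  refine iSup_le fun U => iSup_le fun hU => ?_
  exfalso
  apply hCF
  rw [← hU.2]
  intro f hf
  exact hf.1

/-- ZF: in configuration Z every component is fixed by `H`. -/
theorem configZ_fix (cfg : Config H V p r F) (hcent : ∀ h : H, ∀ f ∈ F, h * f = f * h) :
    ∀ (h : H) (C : Subgroup H), comp (V := V) F C ≠ ⊥ → mapH h C = C := by
  intro h C hC
  have hCF : C ≤ F := zf_comp_le (V := V) C hC
  have hconj : ∀ c ∈ C, h * c * h⁻¹ = c := by
    intro c hc
    rw [hcent h c (hCF hc), mul_assoc, mul_inv_cancel, mul_one]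
  unfold mapH
  ext x
  rw [Subgroup.mem_map]
  constructor
  · rintro ⟨c, hc, rfl⟩
    have : (MulAut.conj h).toMonoidHom c = h * c * h⁻¹ := rfl
    rw [this, hconj c hc]
    exact hc
  · intro hx
    refine ⟨x, hx, ?_⟩
    have : (MulAut.conj h).toMonoidHom x = h * x * h⁻¹ := rfl
    rw [this, hconj x hx]

end decomp

end Cfsg.Agent.Lib.Helper66.S3
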