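import Mathlib
import Cfsg.Agent.Lib.Helper66.S3Defs

/-! # S3 hive (S4305; owner helper66): leaf S3-QS `quot_small` (by helper78)

An `A3`-irreducible elementary abelian section `H/F` has order dividing `r²`.
`v ∉ F`; `u := v·τv` (or `v`): `τū = ū^{±1}`; `N := u·σu·σ²u`.  If `N ∉ F` then `H = F⟨N⟩`, else `H = F⟨u, σu⟩`. -/

set_option autoImplicit false

namespace Cfsg.Agent.Lib.Helper66.S3

theorem s3qs_enum (a : A3) :
    a = 1 ∨ a = sig ∨ a = sig * sig ∨ a = tau ∨ a = sig * tau ∨ a = sig * sig * tau := by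
  revert a
  unfold A3 sig tau
  decide

theorem s3qs_sig3 : sig * sig * sig = 1 := by
  unfold sig
  decide

theorem s3qs_tau_sig : tau * sig = sig * sig * tau := by
  unfold sig tau
  decide

theorem s3qs_tau_sig_sig : tau * sig * sig = sig * tau := by
  unfold sig tau
  decide

theorem s3qs_tau_tau : tau * tau = 1 := by
  unfold tau
  decide

section

variable {H : Type*} [Group H] [MulDistribMulAction A3 H] (F : Subgroup H) [F.Normal]

/-- The endomorphism of `H ⧸ F` induced by `g : A3`. -/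
def s3qs_qact (hFA : ∀ a : A3, ∀ f ∈ F, a • f ∈ F) (g : A3) : H ⧸ F →* H ⧸ F :=
  QuotientGroup.lift F ((QuotientGroup.mk' F).comp (MulDistribMulAction.toMonoidHom H g))
    (fun f hf => by
      rw [MonoidHom.mem_ker, MonoidHom.comp_apply, MulDistribMulAction.toMonoidHom_apply,
        QuotientGroup.mk'_apply, QuotientGroup.eq_one_iff]
      exact hFA g f hf)

theorem s3qs_qact_mk (hFA : ∀ a : A3, ∀ f ∈ F, a • f ∈ F) (g : A3) (x : H) :
    s3qs_qact F hFA g (x : H ⧸ F) = ((g • x : H) : H ⧸ F) := rfl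

omit [MulDistribMulAction A3 H] in
theorem s3qs_comm (hcomm : commutator H ≤ F) (p q : H ⧸ F) : p * q = q * p := by
  induction p using QuotientGroup.induction_on with
  | H a =>
    induction q using QuotientGroup.induction_on with
    | H b =>
      rw [← QuotientGroup.mk_mul, ← QuotientGroup.mk_mul, QuotientGroup.eq]
      apply hcomm
      rw [commutator_def]
      have h := Subgroup.commutator_mem_commutator (Subgroup.mem_top b⁻¹) (Subgroup.mem_top a⁻¹)
      rw [commutatorElement_def] at h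
      have e : (a * b)⁻¹ * (b * a) = b⁻¹ * a⁻¹ * b⁻¹⁻¹ * a⁻¹⁻¹ := by group
      rw [e]
      exact h

omit [MulDistribMulAction A3 H] in
theorem s3qs_exp (r : ℕ) (hexp : ∀ h : H, h ^ r ∈ F) (q : H ⧸ F) : q ^ r = 1 := by
  induction q using QuotientGroup.induction_on with
  | H a =>
    rw [← QuotientGroup.mk_pow, QuotientGroup.eq_one_iff]
    exact hexp a

/-- Two generators: if the images of `x, y` span an `A3`-invariant subgroup of `H ⧸ F` and `x ∉ F`,
then `|H : F|` divides `r²`. -/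
theorem s3qs_gen2 [Finite H] (r : ℕ) (hr : r.Prime) (hFA : ∀ a : A3, ∀ f ∈ F, a • f ∈ F)
    (hcomm : commutator H ≤ F) (hexp : ∀ h : H, h ^ r ∈ F)
    (hirr : ∀ M : Subgroup H, F ≤ M → (∀ a : A3, ∀ m ∈ M, a • m ∈ M) → M = F ∨ M = ⊤)
    (x y : H) (hx : x ∉ F)
    (hs : ∀ g : A3, g = sig ∨ g = tau →
      ((g • x : H) : H ⧸ F) ∈ Subgroup.closure {(x : H ⧸ F), (y : H ⧸ F)} ∧
      ((g • y : H) : H ⧸ F) ∈ Subgroup.closure {(x : H ⧸ F), (y : H ⧸ F)}) :
    F.index ∣ r ^ 2 := by
  classical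
  have hQcomm := s3qs_comm F hcomm
  have hQexp := s3qs_exp F r hexp
  set T : Subgroup (H ⧸ F) := Subgroup.closure {(x : H ⧸ F), (y : H ⧸ F)} with hT
  -- invariance under sig, tau
  have hinv : ∀ g : A3, g = sig ∨ g = tau → ∀ m : H, (m : H ⧸ F) ∈ T → ((g • m : H) : H ⧸ F) ∈ T := by
    intro g hg m hm
    have hle : T ≤ T.comap (s3qs_qact F hFA g) := by
      rw [hT, Subgroup.closure_le]
      intro q hq
      rcases hq with rfl | hq
      · show s3qs_qact F hFA g (x : H ⧸ F) ∈ T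
        rw [s3qs_qact_mk]
        exact (hs g hg).1
      · rw [Set.mem_singleton_iff] at hq
        subst hq
        show s3qs_qact F hFA g (y : H ⧸ F) ∈ T
        rw [s3qs_qact_mk]
        exact (hs g hg).2
    have := hle hm
    rw [Subgroup.mem_comap, s3qs_qact_mk] at this
    exact this
  have hone : ∀ m : H, (m : H ⧸ F) ∈ T → (((1 : A3) • m : H) : H ⧸ F) ∈ T := by
    intro m hm
    rw [one_smul]
    exact hm
  have hmul : ∀ g h : A3, (∀ m : H, (m : H ⧸ F) ∈ T → ((g • m : H) : H ⧸ F) ∈ T) →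
      (∀ m : H, (m : H ⧸ F) ∈ T → ((h • m : H) : H ⧸ F) ∈ T) →
      ∀ m : H, (m : H ⧸ F) ∈ T → (((g * h) • m : H) : H ⧸ F) ∈ T := by
    intro g h hg hh m hm
    rw [mul_smul]
    exact hg _ (hh _ hm)
  have hsig := hinv sig (Or.inl rfl)
  have htau := hinv tau (Or.inr rfl)
  have hall : ∀ a : A3, ∀ m : H, (m : H ⧸ F) ∈ T → ((a • m : H) : H ⧸ F) ∈ T := by
    intro a
    rcases s3qs_enum a with rfl | rfl | rfl | rfl | rfl | rfl
    · exact hone
    · exact hsig
    · exact hmul _ _ hsig hsig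
    · exact htau
    · exact hmul _ _ hsig htau
    · exact hmul _ _ (hmul _ _ hsig hsig) htau
  -- the subgroup M
  have hM := hirr (T.comap (QuotientGroup.mk' F))
    (by
      intro f hf
      rw [Subgroup.mem_comap, QuotientGroup.mk'_apply, (QuotientGroup.eq_one_iff f).mpr hf]
      exact T.one_mem)
    (by
      intro a m hm
      rw [Subgroup.mem_comap, QuotientGroup.mk'_apply] at hm ⊢
      exact hall a m hm)
  have hxT : (x : H ⧸ F) ∈ T := Subgroup.subset_closure (Set.mem_insert _ _)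
  have hMtop : T.comap (QuotientGroup.mk' F) = ⊤ := by
    rcases hM with h | h
    · exfalso
      apply hx
      rw [← h, Subgroup.mem_comap, QuotientGroup.mk'_apply]
      exact hxT
    · exact h
  have hTtop : ∀ q : H ⧸ F, q ∈ T := by
    intro q
    induction q using QuotientGroup.induction_on with
    | H a =>
      have : a ∈ T.comap (QuotientGroup.mk' F) := by rw [hMtop]; exact Subgroup.mem_top a
      rw [Subgroup.mem_comap, QuotientGroup.mk'_apply] at this
      exact this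
  -- the count
  have hr0 : (r : ℤ) ≠ 0 := by exact_mod_cast hr.ne_zero
  have hrep : ∀ q : H ⧸ F, ∃ i j : ℕ, i < r ∧ j < r ∧ (x : H ⧸ F) ^ i * (y : H ⧸ F) ^ j = q := by
    intro q
    let _ : CommGroup (H ⧸ F) := { (inferInstance : Group (H ⧸ F)) with mul_comm := hQcomm }
    have hq : q ∈ Subgroup.closure {(x : H ⧸ F), (y : H ⧸ F)} := hTtop q
    rw [Subgroup.mem_closure_pair] at hq
    obtain ⟨m, n, hmn⟩ := hq
    refine ⟨(m % (r : ℤ)).toNat, (n % (r : ℤ)).toNat, ?_, ?_, ?_⟩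
    · have := Int.emod_lt_of_pos m (by exact_mod_cast hr.pos : (0 : ℤ) < r)
      omega
    · have := Int.emod_lt_of_pos n (by exact_mod_cast hr.pos : (0 : ℤ) < r)
      omega
    · rw [← hmn, zpow_eq_zpow_emod' m (hQexp (x : H ⧸ F)), zpow_eq_zpow_emod' n (hQexp (y : H ⧸ F))]
      rw [← zpow_natCast, ← zpow_natCast, Int.toNat_of_nonneg (Int.emod_nonneg m hr0),
        Int.toNat_of_nonneg (Int.emod_nonneg n hr0)]
  have hsurj : Function.Surjective
      (fun p : Fin r × Fin r => (x : H ⧸ F) ^ (p.1 : ℕ) * (y : H ⧸ F) ^ (p.2 : ℕ)) := by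
    intro q
    obtain ⟨i, j, hi, hj, hq⟩ := hrep q
    exact ⟨(⟨i, hi⟩, ⟨j, hj⟩), hq⟩
  have hcard : Nat.card (H ⧸ F) ≤ r * r := by
    have := Nat.card_le_card_of_surjective _ hsurj
    rwa [Nat.card_prod, Nat.card_fin] at this
  have hp : IsPGroup r (H ⧸ F) := fun q => ⟨1, by rw [pow_one]; exact hQexp q⟩
  have : Fact r.Prime := ⟨hr⟩
  obtain ⟨n, hn⟩ := IsPGroup.iff_card.mp hp
  rw [Subgroup.index_eq_card, hn]
  have hn2 : n ≤ 2 := by
    rw [hn, ← pow_two] at hcard
    exact (Nat.pow_le_pow_iff_right hr.one_lt).mp hcard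
  exact pow_dvd_pow r hn2

end

/-- An `A3`-irreducible elementary abelian section `H/F` has order `r` or `r²`; stated inside `H`. -/
theorem quot_small {H : Type*} [Group H] [Finite H] [MulDistribMulAction A3 H] (r : ℕ)
    (hr : r.Prime) (F : Subgroup H) [F.Normal] (hFA : ∀ a : A3, ∀ f ∈ F, a • f ∈ F)
    (hcomm : commutator H ≤ F) (hexp : ∀ h : H, h ^ r ∈ F)
    (hirr : ∀ M : Subgroup H, F ≤ M → (∀ a : A3, ∀ m ∈ M, a • m ∈ M) → M = F ∨ M = ⊤) :
    F.index ∣ r ^ 2 := by
  classical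
  by_cases hF : F = ⊤
  · rw [hF, Subgroup.index_top]
    exact one_dvd _
  have hQcomm := s3qs_comm F hcomm
  let _ : CommGroup (H ⧸ F) := { (inferInstance : Group (H ⧸ F)) with mul_comm := hQcomm }
  obtain ⟨v, hv⟩ : ∃ v : H, v ∉ F := by
    by_contra hcon
    push Not at hcon
    exact hF ((Subgroup.eq_top_iff' F).mpr hcon)
  -- choose `u`
  obtain ⟨u, hu, e, hte⟩ : ∃ u : H, u ∉ F ∧ ∃ e : ℤ, ((tau • u : H) : H ⧸ F) = (u : H ⧸ F) ^ e := by
    by_cases hv' : v * tau • v ∈ F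
    · refine ⟨v, hv, -1, ?_⟩
      have h1 : (v : H ⧸ F) * ((tau • v : H) : H ⧸ F) = 1 := by
        rw [← QuotientGroup.mk_mul, QuotientGroup.eq_one_iff]
        exact hv'
      rw [zpow_neg_one]
      exact eq_inv_of_mul_eq_one_right h1
    · refine ⟨v * tau • v, hv', 1, ?_⟩
      rw [zpow_one, smul_mul', ← mul_smul, s3qs_tau_tau, one_smul, QuotientGroup.mk_mul,
        QuotientGroup.mk_mul]
      exact hQcomm _ _
  set qa := s3qs_qact F hFA with hqa
  have hmk : ∀ (g : A3) (x : H), qa g (x : H ⧸ F) = ((g • x : H) : H ⧸ F) := fun g x => rfl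
  set ub : H ⧸ F := (u : H ⧸ F) with hub
  set wb : H ⧸ F := ((sig • u : H) : H ⧸ F) with hwb
  set zb : H ⧸ F := ((sig • sig • u : H) : H ⧸ F) with hzb
  have hs1 : qa sig ub = wb := rfl
  have hs2 : qa sig wb = zb := rfl
  have hs3 : qa sig zb = ub := by
    rw [hzb, hmk, ← mul_smul, ← mul_smul, s3qs_sig3, one_smul]
  have ht1 : qa tau ub = ub ^ e := hte
  have ht2 : qa tau wb = zb ^ e := by
    rw [hwb, hmk, ← mul_smul, s3qs_tau_sig, mul_smul, mul_smul, ← hmk sig, ← hmk sig, hte, map_zpow,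
      map_zpow]
    rfl
  have ht3 : qa tau zb = wb ^ e := by
    rw [hzb, hmk, ← mul_smul, ← mul_smul, s3qs_tau_sig_sig, mul_smul, ← hmk sig, hte,
      map_zpow]
    rfl
  set N : H := u * sig • u * sig • sig • u with hN
  have hNb : (N : H ⧸ F) = ub * wb * zb := by
    rw [hN, QuotientGroup.mk_mul, QuotientGroup.mk_mul]
  have hsN : qa sig (N : H ⧸ F) = (N : H ⧸ F) := by
    rw [hNb, map_mul, map_mul, hs1, hs2, hs3]
    rw [mul_comm (wb * zb) ub, mul_assoc]
  have htN : qa tau (N : H ⧸ F) = (N : H ⧸ F) ^ e := by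
    rw [hNb, map_mul, map_mul, ht1, ht2, ht3, mul_zpow, mul_zpow]
    rw [mul_assoc, mul_assoc, mul_comm (zb ^ e) (wb ^ e)]
  by_cases hNF : N ∈ F
  · -- `H = F⟨u, σu⟩`
    have hz : zb = (ub * wb)⁻¹ := by
      have h1 : ub * wb * zb = 1 := by
        rw [← hNb, QuotientGroup.eq_one_iff]
        exact hNF
      exact eq_inv_of_mul_eq_one_right h1
    have huT : ub ∈ Subgroup.closure {ub, wb} := Subgroup.subset_closure (Set.mem_insert _ _)
    have hwT : wb ∈ Subgroup.closure {ub, wb} :=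
      Subgroup.subset_closure (Set.mem_insert_of_mem _ (Set.mem_singleton _))
    have hzT : zb ∈ Subgroup.closure {ub, wb} := by
      rw [hz]
      exact Subgroup.inv_mem _ (Subgroup.mul_mem _ huT hwT)
    apply s3qs_gen2 F r hr hFA hcomm hexp hirr u (sig • u) hu
    intro g hg
    rcases hg with rfl | rfl
    · refine ⟨hwT, ?_⟩
      exact hzT
    · refine ⟨?_, ?_⟩
      · rw [hte]
        exact Subgroup.zpow_mem _ huT e
      · have : ((tau • sig • u : H) : H ⧸ F) = zb ^ e := ht2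
        rw [this]
        exact Subgroup.zpow_mem _ hzT e
  · -- `H = F⟨N⟩`
    have hNT : (N : H ⧸ F) ∈ Subgroup.closure {(N : H ⧸ F), (N : H ⧸ F)} :=
      Subgroup.subset_closure (Set.mem_insert _ _)
    apply s3qs_gen2 F r hr hFA hcomm hexp hirr N N hNF
    intro g hg
    rcases hg with rfl | rfl
    · have : ((sig • N : H) : H ⧸ F) = (N : H ⧸ F) := hsN
      rw [this]
      exact ⟨hNT, hNT⟩
    · have : ((tau • N : H) : H ⧸ F) = (N : H ⧸ F) ^ e := htN
      rw [this]
      exact ⟨Subgroup.zpow_mem _ hNT e, Subgroup.zpow_mem _ hNT e⟩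

end Cfsg.Agent.Lib.Helper66.S3
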