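import Cfsg.Agent.Lib.Helper66.S3Defs
import Cfsg.Agent.Lib.Helper66.S3.QS

/-!
# S4305 hive (S3), leaf ZZ `configZ_z0` (helper68)
-/

set_option autoImplicit false

namespace Cfsg.Agent.Lib.Helper66.S3

universe u

open scoped commutatorElement

section zzaux

variable {H : Type u} [Group H]

/-- class 2: the commutator is multiplicative in the second variable. -/
theorem zz_comm_mul_right (hc : ∀ g h k : H, ⁅g, h⁆ * k = k * ⁅g, h⁆) (g h k : H) :
    ⁅g, h * k⁆ = ⁅g, h⁆ * ⁅g, k⁆ := by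
  have h1 : ⁅g, h * k⁆ = ⁅g, h⁆ * (h * ⁅g, k⁆ * h⁻¹) := by
    simp only [commutatorElement_def]; group
  rw [h1, ← hc g k h, mul_inv_cancel_right]

/-- `h ↦ ⁅g, h⁆` as a homomorphism (class 2). -/
def zzPhi (hc : ∀ g h k : H, ⁅g, h⁆ * k = k * ⁅g, h⁆) (g : H) : H →* H where
  toFun h := ⁅g, h⁆
  map_one' := by simp [commutatorElement_def]
  map_mul' := zz_comm_mul_right hc g

theorem zzPhi_apply (hc : ∀ g h k : H, ⁅g, h⁆ * k = k * ⁅g, h⁆) (g h : H) :
    zzPhi hc g h = ⁅g, h⁆ := rfl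

theorem zz_index {r : ℕ} (hr : r.Prime) (F K : Subgroup H) (hFK : F ≤ K) (hidx : F.index = r ^ 2)
    (h1 : ¬ K ≤ F) (h2 : K ≠ ⊤) : K.index = r := by
  have h3 := Subgroup.relIndex_mul_index hFK
  rw [hidx] at h3
  have h4 : K.index ∣ r ^ 2 := Dvd.intro_left _ h3
  obtain ⟨k, hk, hk'⟩ := (Nat.dvd_prime_pow hr).mp h4
  have h5 : F.relIndex K ≠ 1 := fun h => h1 (Subgroup.relIndex_eq_one.mp h)
  have h6 : K.index ≠ 1 := fun h => h2 (Subgroup.index_eq_one.mp h)
  interval_cases k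
  · rw [pow_zero] at hk'; exact absurd hk' h6
  · rw [pow_one] at hk'; exact hk'
  · exfalso
    rw [hk'] at h3
    have : F.relIndex K = 1 := by
      have hpos : 0 < r ^ 2 := pow_pos hr.pos 2
      exact Nat.eq_of_mul_eq_mul_right hpos (by rw [h3, one_mul])
    exact h5 this

theorem zz_top_of_index_prime {r : ℕ} (hr : r.Prime) (K N : Subgroup H) (hKN : K ≤ N)
    (hK : K.index = r) (hne : ¬ N ≤ K) : N = ⊤ := by
  have h3 := Subgroup.relIndex_mul_index hKN
  rw [hK] at h3
  have h5 : K.relIndex N ≠ 1 := fun h => hne (Subgroup.relIndex_eq_one.mp h)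
  have h4 : N.index ∣ r := Dvd.intro_left _ h3
  rcases (Nat.dvd_prime hr).mp h4 with h | h
  · exact Subgroup.index_eq_one.mp h
  · exfalso
    rw [h] at h3
    exact h5 (Nat.eq_of_mul_eq_mul_right hr.pos (by rw [h3, one_mul]))

theorem zz_A3_cases : ∀ a : A3, a = 1 ∨ a = sig ∨ a = sig * sig ∨ a = tau ∨ a = sig * tau ∨
    a = sig * sig * tau := by
  unfold sig tau; decide

theorem zz_tau_sig : tau * sig = sig * sig * tau := by unfold sig tau; decide
theorem zz_sig_tau : sig * tau = tau * sig * sig := by unfold sig tau; decide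
theorem zz_tau_tau : tau * tau = 1 := by unfold tau; decide

end zzaux

section decomp

variable {H V : Type u} [Group H] [CommGroup V] [MulDistribMulAction A3 H]
  [MulDistribMulAction A3 V] [MulDistribMulAction H V] {p r : ℕ} {F : Subgroup H}

/-- ZZ: in configuration Z the derived subgroup is cyclic of order `r`, centralized by `σ` and
inverted by `τ`. -/
theorem configZ_z0 (cfg : Config H V p r F) (hcent : ∀ h : H, ∀ f ∈ F, h * f = f * h) :
    ∃ z ∈ commutator H, z ≠ 1 ∧ z ^ r = 1 ∧ sig • z = z ∧ tau • z = z⁻¹ ∧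
      ∀ w ∈ commutator H, ∃ k : ℕ, w = z ^ k := by
  classical
  haveI : Finite H := cfg.hyp.finH
  haveI : F.Normal := cfg.Fnormal
  have hr := cfg.rprime
  obtain ⟨x, y, hxy⟩ := cfg.nonab
  have hcomm_mem : ∀ g h : H, ⁅g, h⁆ ∈ commutator H := fun g h => by
    rw [commutator_def]
    exact Subgroup.commutator_mem_commutator (Subgroup.mem_top g) (Subgroup.mem_top h)
  have hH'F : ∀ g h : H, ⁅g, h⁆ ∈ F := fun g h => cfg.quot_comm (hcomm_mem g h)
  have hc : ∀ g h k : H, ⁅g, h⁆ * k = k * ⁅g, h⁆ := fun g h k => (hcent k _ (hH'F g h)).symm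
  have hcentral1 : ∀ g f : H, f ∈ F → ⁅g, f⁆ = 1 := fun g f hf =>
    commutatorElement_eq_one_iff_mul_comm.mpr (hcent g f hf)
  have hFker : ∀ g : H, F ≤ (zzPhi hc g).ker := fun g f hf => by
    rw [MonoidHom.mem_ker, zzPhi_apply]; exact hcentral1 g f hf
  have hselfker : ∀ g : H, g ∈ (zzPhi hc g).ker := fun g => by
    rw [MonoidHom.mem_ker, zzPhi_apply]; simp [commutatorElement_def]
  have hnotF : ∀ g h : H, ⁅g, h⁆ ≠ 1 → g ∉ F := fun g h hne hg => by
    apply hne
    rw [← commutatorElement_inv]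
    rw [hcentral1 h g hg, inv_one]
  -- the index of F is r ^ 2
  have hdvd : F.index ∣ r ^ 2 :=
    quot_small r hr F cfg.FA cfg.quot_comm cfg.quot_exp cfg.quot_irr
  have hz1 : ⁅x, y⁆ ≠ 1 := fun h => hxy (commutatorElement_eq_one_iff_mul_comm.mp h)
  have hidx : F.index = r ^ 2 := by
    obtain ⟨k, hk, hk'⟩ := (Nat.dvd_prime_pow hr).mp hdvd
    interval_cases k
    · exfalso; rw [pow_zero] at hk'; exact cfg.Fne (Subgroup.index_eq_one.mp hk')
    · exfalso
      rw [pow_one] at hk'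
      have htop := zz_top_of_index_prime hr F (zzPhi hc x).ker (hFker x) hk'
        (fun hle => hnotF x y hz1 (hle (hselfker x)))
      have : y ∈ (zzPhi hc x).ker := by rw [htop]; exact Subgroup.mem_top y
      rw [MonoidHom.mem_ker, zzPhi_apply] at this
      exact hz1 this
    · exact hk'
  -- r-th powers of commutators vanish
  have hpow : ∀ g h : H, ⁅g, h⁆ ^ r = 1 := fun g h => by
    have : ⁅g, h⁆ ^ r = zzPhi hc g (h ^ r) := by rw [map_pow, zzPhi_apply]
    rw [this, zzPhi_apply]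
    exact hcentral1 g _ (cfg.quot_exp h)
  -- key: the values of ⁅g, ·⁆ are powers of any nontrivial one
  have key : ∀ g h0 : H, ⁅g, h0⁆ ≠ 1 → ∀ h : H, ⁅g, h⁆ ∈ Subgroup.zpowers ⁅g, h0⁆ := by
    intro g h0 hne h
    have hKidx : (zzPhi hc g).ker.index = r := by
      apply zz_index hr F _ (hFker g) hidx
      · exact fun hle => hnotF g h0 hne (hle (hselfker g))
      · intro htop
        have : h0 ∈ (zzPhi hc g).ker := by rw [htop]; exact Subgroup.mem_top h0
        rw [MonoidHom.mem_ker, zzPhi_apply] at this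
        exact hne this
    have hcard : Nat.card (zzPhi hc g).range = r := by
      rw [← Subgroup.index_ker, hKidx]
    have hle : Subgroup.zpowers ⁅g, h0⁆ ≤ (zzPhi hc g).range := by
      rw [Subgroup.zpowers_le]
      exact ⟨h0, rfl⟩
    have hord : orderOf ⁅g, h0⁆ = r := by
      haveI : Fact r.Prime := ⟨hr⟩
      exact orderOf_eq_prime (hpow g h0) hne
    have heq : Subgroup.zpowers ⁅g, h0⁆ = (zzPhi hc g).range :=
      Subgroup.eq_of_le_of_card_ge hle (by rw [hcard, Nat.card_zpowers, hord])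
    rw [heq]
    exact ⟨h, rfl⟩
  -- all commutators are powers of z
  have hall : ∀ g h : H, ⁅g, h⁆ ∈ Subgroup.zpowers ⁅x, y⁆ := by
    intro h g
    -- fix h; N := {g | ⁅h, g⁆ ∈ Z}
    have hxN : x ∈ (Subgroup.zpowers ⁅x, y⁆).comap (zzPhi hc h) := by
      rw [Subgroup.mem_comap, zzPhi_apply, ← commutatorElement_inv x h]
      exact Subgroup.inv_mem _ (key x y hz1 h)
    have hyN : y ∈ (Subgroup.zpowers ⁅x, y⁆).comap (zzPhi hc h) := by
      rw [Subgroup.mem_comap, zzPhi_apply, ← commutatorElement_inv y h]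
      apply Subgroup.inv_mem
      have hz1' : ⁅y, x⁆ ≠ 1 := by
        intro h'
        apply hz1
        rw [← commutatorElement_inv y x, h', inv_one]
      have := key y x hz1' h
      rwa [← commutatorElement_inv x y, Subgroup.zpowers_inv] at this
    have hFN : F ≤ (Subgroup.zpowers ⁅x, y⁆).comap (zzPhi hc h) := fun f hf => by
      rw [Subgroup.mem_comap, zzPhi_apply, hcentral1 h f hf]; exact Subgroup.one_mem _
    have hLidx : ((Subgroup.zpowers ⁅x, y⁆).comap (zzPhi hc h) ⊓ (zzPhi hc x).ker).index = r := by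
      apply zz_index hr F _ (le_inf hFN (hFker x)) hidx
      · exact fun hle => hnotF x y hz1 (hle ⟨hxN, hselfker x⟩)
      · intro htop
        have : y ∈ (Subgroup.zpowers ⁅x, y⁆).comap (zzPhi hc h) ⊓ (zzPhi hc x).ker := by
          rw [htop]; exact Subgroup.mem_top y
        have h2 : y ∈ (zzPhi hc x).ker := this.2
        rw [MonoidHom.mem_ker, zzPhi_apply] at h2
        exact hz1 h2
    have htop := zz_top_of_index_prime hr _ ((Subgroup.zpowers ⁅x, y⁆).comap (zzPhi hc h))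
      inf_le_left hLidx (fun hle => by
        have h2 : y ∈ (zzPhi hc x).ker := (hle hyN).2
        rw [MonoidHom.mem_ker, zzPhi_apply] at h2
        exact hz1 h2)
    have : g ∈ (Subgroup.zpowers ⁅x, y⁆).comap (zzPhi hc h) := by
      rw [htop]; exact Subgroup.mem_top g
    rwa [Subgroup.mem_comap, zzPhi_apply] at this
  have hcyc : commutator H ≤ Subgroup.zpowers ⁅x, y⁆ := by
    rw [commutator_def, Subgroup.commutator_le]
    exact fun g _ h _ => hall g h
  -- the action on z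
  have hsmul : ∀ (a : A3) (g h : H), a • ⁅g, h⁆ = ⁅a • g, a • h⁆ := fun a g h => by
    simp [commutatorElement_def, smul_mul', smul_inv']
  obtain ⟨m, hm⟩ := Subgroup.mem_zpowers_iff.mp (by
    have := hall (sig • x) (sig • y); rwa [← hsmul] at this)
  obtain ⟨k, hk⟩ := Subgroup.mem_zpowers_iff.mp (by
    have := hall (tau • x) (tau • y); rwa [← hsmul] at this)
  -- hm : z ^ m = sig • z, hk : z ^ k = tau • z
  have hst : sig • (tau • ⁅x, y⁆) = tau • (sig • ⁅x, y⁆) := by
    rw [← hk, ← hm, smul_zpow', smul_zpow', ← hk, ← hm, ← zpow_mul, ← zpow_mul, mul_comm]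
  have hu : sig • (tau • ⁅x, y⁆) = tau • ⁅x, y⁆ := by
    have h1 : tau • (sig • ⁅x, y⁆) = sig • (sig • (tau • ⁅x, y⁆)) := by
      rw [← mul_smul, zz_tau_sig, mul_smul, mul_smul]
    rw [h1] at hst
    exact (smul_left_cancel sig hst).symm
  have hsz : sig • ⁅x, y⁆ = ⁅x, y⁆ := by
    have h1 : ⁅x, y⁆ = tau • (tau • ⁅x, y⁆) := by
      rw [← mul_smul, zz_tau_tau, one_smul]
    have h2 : sig • (tau • (tau • ⁅x, y⁆)) = tau • (sig • (sig • (tau • ⁅x, y⁆))) := by
      rw [← mul_smul, zz_sig_tau, mul_smul, mul_smul]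
    rw [h1, h2, hu, hu]
  have htz : tau • ⁅x, y⁆ = ⁅x, y⁆⁻¹ := by
    apply eq_inv_of_mul_eq_one_right
    apply cfg.hyp.fpfH
    have hs : sig • (⁅x, y⁆ * tau • ⁅x, y⁆) = ⁅x, y⁆ * tau • ⁅x, y⁆ := by
      rw [smul_mul', hsz, hu]
    have ht : tau • (⁅x, y⁆ * tau • ⁅x, y⁆) = ⁅x, y⁆ * tau • ⁅x, y⁆ := by
      rw [smul_mul', ← mul_smul, zz_tau_tau, one_smul]
      exact (hc x y _).symm
    intro a
    rcases zz_A3_cases a with rfl | rfl | rfl | rfl | rfl | rfl
    · exact one_smul _ _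
    · exact hs
    · rw [mul_smul, hs, hs]
    · exact ht
    · rw [mul_smul, ht, hs]
    · rw [mul_smul, mul_smul, ht, hs, hs]
  refine ⟨⁅x, y⁆, hcomm_mem x y, hz1, hpow x y, hsz, htz, ?_⟩
  intro w hw
  have h1 : w ∈ Subgroup.zpowers ⁅x, y⁆ := hcyc hw
  have h2 := (isOfFinOrder_of_finite ⁅x, y⁆).mem_powers_iff_mem_zpowers.mpr h1
  obtain ⟨n, hn⟩ := (Submonoid.mem_powers_iff _ _).mp h2
  exact ⟨n, hn.symm⟩

end decomp

end Cfsg.Agent.Lib.Helper66.S3
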