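import Cfsg.Agent.Lib.Helper66.S3Defs
import Cfsg.Agent.Lib.Helper66.FpfThree

/-! # S3 hive (S4305, owner helper66), leaf T: the three-component lemma `lemT` (helper75).

`S₃ = ⟨σ, τ⟩` acts fixed-point-freely on the finite group `H` of order prime to 6, `D ⊴ H` contains all `h⁻¹ τ(h)` and
`D ∩ σD ∩ σ²D`-type elements are trivial (`hint`).  Then `H` is abelian. -/

set_option autoImplicit false

namespace Cfsg.Agent.Lib.Helper66.S3

theorem lemt_s3 : sig * sig * sig = 1 := by decide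
theorem lemt_tt : tau * tau = 1 := by decide
theorem lemt_st : sig * tau = tau * (sig * sig) := by decide
theorem lemt_sst : sig * sig * tau = tau * sig := by decide
theorem lemt_enum : ∀ a : A3, a = 1 ∨ a = sig ∨ a = sig * sig ∨ a = tau ∨ a = sig * tau ∨ a = sig * sig * tau := by
  decide

/-- T: the three-component lemma (pure group theory). -/
theorem lemT {H : Type*} [Group H] [Finite H] [MulDistribMulAction A3 H]
    (hcop : (Nat.card H).Coprime 6) (hfpf : ∀ h : H, (∀ a : A3, a • h = h) → h = 1)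
    (D : Subgroup H) [D.Normal] (hD : ∀ h : H, h⁻¹ * tau • h ∈ D)
    (hint : ∀ h : H, h ∈ D → sig • h ∈ D → (sig * sig) • h ∈ D → h = 1) :
    ∀ x y : H, x * y = y * x := by
  -- step 1: `σ` is fixed-point-free
  have hsfpf : ∀ c : H, sig • c = c → c = 1 := by
    intro c hc
    have hd := hD c
    have hsd : sig • (c⁻¹ * tau • c) = c⁻¹ * tau • c := by
      rw [smul_mul', smul_inv', hc, ← mul_smul, lemt_st, mul_smul, mul_smul, hc, hc]
    have hssd : (sig * sig) • (c⁻¹ * tau • c) = c⁻¹ * tau • c := by rw [mul_smul, hsd, hsd]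
    have hd1 : c⁻¹ * tau • c = 1 :=
      hint _ hd (by rw [hsd]; exact hd) (by rw [hssd]; exact hd)
    have htc : tau • c = c := by
      have h1 : c * (c⁻¹ * tau • c) = c := by rw [hd1, mul_one]
      rwa [mul_inv_cancel_left] at h1
    apply hfpf
    intro a
    rcases lemt_enum a with rfl | rfl | rfl | rfl | rfl | rfl
    · exact one_smul _ _
    · exact hc
    · rw [mul_smul, hc, hc]
    · exact htc
    · rw [mul_smul, htc, hc]
    · rw [mul_smul, mul_smul, htc, hc, hc]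
  -- the `FPF3` lemmas
  have hF : F3.FPF3 (MulDistribMulAction.toMulAut A3 H sig) :=
    ⟨fun b hb => hsfpf b hb, fun b => by
      change sig • sig • sig • b = b
      rw [show sig • sig • sig • b = (sig * sig * sig) • b by simp only [mul_smul], lemt_s3, one_smul]⟩
  have hprod : ∀ y : H, y * sig • y * sig • sig • y = 1 := fun y => hF.prod_eq_one y
  have hcomm : ∀ y : H, y * sig • y = sig • y * y := fun y => hF.comm y
  -- the quotient `H ⧸ D`
  have hcardQ : (Nat.card (H ⧸ D)).Coprime 6 :=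
    Nat.Coprime.coprime_dvd_left (Subgroup.card_quotient_dvd_card D) hcop
  have hc2 : (Nat.card (H ⧸ D)).Coprime 2 :=
    Nat.Coprime.coprime_dvd_right (by norm_num : 2 ∣ 6) hcardQ
  have hc3 : (Nat.card (H ⧸ D)).Coprime 3 :=
    Nat.Coprime.coprime_dvd_right (by norm_num : 3 ∣ 6) hcardQ
  have hsqinj : ∀ u v : H ⧸ D, u ^ 2 = v ^ 2 → u = v := fun u v h => (powCoprime hc2).injective h
  have hcube : ∀ q : H ⧸ D, ∃ c : H ⧸ D, c ^ 3 = q := fun q => (powCoprime hc3).surjective q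
  -- step 3: `H = C_H(τ) D`
  have hH2 : (Nat.card H).Coprime 2 := Nat.Coprime.coprime_dvd_right (by norm_num : 2 ∣ 6) hcop
  obtain ⟨m, hm⟩ : ∃ m, Nat.card H = 2 * m + 1 := by
    have hodd : Odd (Nat.card H) := Nat.Coprime.odd_of_right hH2
    obtain ⟨m, hm⟩ := hodd
    exact ⟨m, hm⟩
  have F1 : ∀ h : H, ∃ x : H, tau • x = x ∧ (QuotientGroup.mk x : H ⧸ D) = QuotientGroup.mk h := by
    intro h
    obtain ⟨d, hd_def⟩ : ∃ d : H, d = h⁻¹ * tau • h := ⟨_, rfl⟩
    have hdD : d ∈ D := by rw [hd_def]; exact hD h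
    have htd : tau • d = d⁻¹ := by
      rw [hd_def, smul_mul', smul_inv', ← mul_smul, lemt_tt, one_smul, mul_inv_rev, inv_inv]
    have hth : tau • h = h * d := by rw [hd_def, mul_inv_cancel_left]
    have hdn : d ^ (2 * m + 1) = 1 := by rw [← hm]; exact pow_card_eq_one'
    obtain ⟨e, he_def⟩ : ∃ e : H, e = d ^ (m + 1) := ⟨_, rfl⟩
    have hee : e * e = d := by
      rw [he_def, ← pow_add]
      have : m + 1 + (m + 1) = (2 * m + 1) + 1 := by ring
      rw [this, pow_succ, hdn, one_mul]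
    have hte : tau • e = e⁻¹ := by rw [he_def, smul_pow', htd, inv_pow]
    have heD : e ∈ D := by rw [he_def]; exact D.pow_mem hdD _
    refine ⟨h * e, ?_, ?_⟩
    · rw [smul_mul', hth, hte, ← hee]; group
    · rw [QuotientGroup.mk_mul, (QuotientGroup.eq_one_iff e).mpr heD, mul_one]
  -- step 4
  have F2 : ∀ x : H, tau • x = x →
      (QuotientGroup.mk ((sig * sig) • x) : H ⧸ D) = QuotientGroup.mk (sig • x) := by
    intro x hx
    have h1 := hD (sig • x)
    have h2 : tau • sig • x = (sig * sig) • x := by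
      rw [← mul_smul, ← lemt_sst, mul_smul, hx]
    rw [h2] at h1
    exact (QuotientGroup.eq.mpr h1).symm
  have F3' : ∀ x : H, tau • x = x →
      (QuotientGroup.mk x : H ⧸ D) * (QuotientGroup.mk (sig • x)) ^ 2 = 1 := by
    intro x hx
    have h1 := hprod x
    have h2 : sig • sig • x = (sig * sig) • x := (mul_smul _ _ _).symm
    rw [h2] at h1
    have h3 := congrArg (QuotientGroup.mk : H → H ⧸ D) h1
    rw [QuotientGroup.mk_mul, QuotientGroup.mk_mul, F2 x hx, QuotientGroup.mk_one] at h3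
    rw [pow_two, ← mul_assoc]; exact h3
  have F4 : ∀ q : H ⧸ D, ∃ x : H, tau • x = x ∧ (QuotientGroup.mk (sig • x) : H ⧸ D) = q := by
    intro q
    obtain ⟨h, hh⟩ := QuotientGroup.mk_surjective (q⁻¹ ^ 2)
    obtain ⟨x, hx, hxh⟩ := F1 h
    refine ⟨x, hx, ?_⟩
    have h3 := F3' x hx
    rw [hxh, hh] at h3
    apply hsqinj
    have h4 : (QuotientGroup.mk (sig • x) : H ⧸ D) ^ 2 = (q⁻¹ ^ 2)⁻¹ := eq_inv_of_mul_eq_one_right h3
    rw [h4, inv_pow, inv_inv]
  -- step 5
  have F5 : ∀ u w : H ⧸ D, u ^ 3 * w = w * u ^ 3 := by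
    intro u w
    obtain ⟨x, hx, hxu⟩ := F4 u
    obtain ⟨y, hy, hyw⟩ := F4 w
    have hc := hcomm (x * sig • y)
    have h1 : sig • (x * sig • y) = sig • x * (sig * sig) • y := by rw [smul_mul', mul_smul]
    rw [h1] at hc
    have h2 := congrArg (QuotientGroup.mk : H → H ⧸ D) hc
    simp only [QuotientGroup.mk_mul] at h2
    rw [F2 y hy, hxu, hyw] at h2
    have hx2 : (QuotientGroup.mk x : H ⧸ D) = (u ^ 2)⁻¹ := by
      have h5 := F3' x hx
      rw [hxu] at h5
      exact eq_inv_of_mul_eq_one_left h5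
    rw [hx2] at h2
    have h3 : (u ^ 2)⁻¹ * w * u = u * w * (u ^ 2)⁻¹ := by
      have e1 : (u ^ 2)⁻¹ * w * (u * w) * w⁻¹ = (u ^ 2)⁻¹ * w * u := by group
      have e2 : u * w * ((u ^ 2)⁻¹ * w) * w⁻¹ = u * w * (u ^ 2)⁻¹ := by group
      rw [← e1, ← e2, h2]
    calc u ^ 3 * w = u ^ 2 * (u * w * (u ^ 2)⁻¹) * u ^ 2 := by group
      _ = u ^ 2 * ((u ^ 2)⁻¹ * w * u) * u ^ 2 := by rw [h3]
      _ = w * u ^ 3 := by group
  have F6 : ∀ a b : H ⧸ D, a * b = b * a := by
    intro a b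
    obtain ⟨c, rfl⟩ := hcube a
    exact F5 c b
  have hcD : ∀ a b : H, a * b * a⁻¹ * b⁻¹ ∈ D := by
    intro a b
    apply (QuotientGroup.eq_one_iff _).mp
    simp only [QuotientGroup.mk_mul, QuotientGroup.mk_inv]
    rw [F6 (QuotientGroup.mk a) (QuotientGroup.mk b)]; group
  intro x y
  have h1 := hcD x y
  have h2 : sig • (x * y * x⁻¹ * y⁻¹) ∈ D := by
    simp only [smul_mul', smul_inv']; exact hcD _ _
  have h3 : (sig * sig) • (x * y * x⁻¹ * y⁻¹) ∈ D := by
    simp only [smul_mul', smul_inv']; exact hcD _ _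
  have h4 := hint _ h1 h2 h3
  calc x * y = (x * y * x⁻¹ * y⁻¹) * (y * x) := by group
    _ = y * x := by rw [h4, one_mul]

end Cfsg.Agent.Lib.Helper66.S3
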