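import Cfsg.Agent.Lib.Helper66.S3Defs

/-! # S3-CL (helper65, leaf of helper66's S3 hive for S4305): coprime lifting of fixed points, abelian kernel -/

set_option autoImplicit false

namespace Cfsg.Agent.Lib.Helper66.S3

universe u

/-- a `1`-cocycle of a finite group `B` in a finite abelian group `A` of coprime order is a coboundary -/
theorem cl_abstract {B A : Type*} [Group B] [Fintype B] [CommGroup A] [Finite A] [MulDistribMulAction B A]
    (hcop : (Nat.card A).Coprime (Nat.card B)) (v : B → A) (hv : ∀ b c : B, v (b * c) = v b * b • v c) :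
    ∃ n : A, ∀ b : B, v b * b • n = n := by
  classical
  have hP : ∀ b : B, b • (∏ c, v c) = ((v b)⁻¹) ^ (Fintype.card B) * ∏ c, v c := by
    intro b
    have h2 : ∀ c, b • v c = (v b)⁻¹ * v (b * c) := by
      intro c
      rw [hv b c, inv_mul_cancel_left]
    rw [Finset.smul_prod']
    simp_rw [h2]
    rw [Finset.prod_mul_distrib, Finset.prod_const, Finset.card_univ]
    congr 1
    exact Fintype.prod_equiv (Equiv.mulLeft b) (fun c => v (b * c)) v (fun _ => rfl)
  -- Bezout
  have hb := Nat.gcd_eq_gcd_ab (Fintype.card B) (Nat.card A)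
  have hg1 : Nat.gcd (Fintype.card B) (Nat.card A) = 1 := by
    rw [← Nat.card_eq_fintype_card]
    exact hcop.symm
  rw [hg1] at hb
  have hpow : ∀ a : A, (a ^ (Fintype.card B)) ^ (Nat.gcdA (Fintype.card B) (Nat.card A)) = a := by
    intro a
    have e1 : a ^ ((Fintype.card B : ℤ) * Nat.gcdA (Fintype.card B) (Nat.card A)) =
        a ^ ((1 : ℤ) - (Nat.card A : ℤ) * Nat.gcdB (Fintype.card B) (Nat.card A)) := by
      congr 1
      have : ((1 : ℕ) : ℤ) = 1 := rfl
      rw [this] at hb
      linarith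
    rw [← zpow_natCast, ← zpow_mul, e1, zpow_sub, zpow_one, zpow_mul, zpow_natCast, pow_card_eq_one', one_zpow,
      inv_one, mul_one]
  refine ⟨(∏ c, v c) ^ (Nat.gcdA (Fintype.card B) (Nat.card A)), fun b => ?_⟩
  rw [smul_zpow', hP b, mul_zpow, hpow, mul_inv_cancel_left]

/-- CL: coprime lifting of fixed points, abelian kernel. -/
theorem coprime_lift {B G : Type*} [Group B] [Finite B] [Group G] [Finite G]
    [MulDistribMulAction B G] (N : Subgroup G) (hNcomm : ∀ x ∈ N, ∀ y ∈ N, x * y = y * x)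
    (hcop : (Nat.card N).Coprime (Nat.card B)) (hNB : ∀ b : B, ∀ n ∈ N, b • n ∈ N) (g : G)
    (hg : ∀ b : B, g⁻¹ * b • g ∈ N) : ∃ n ∈ N, ∀ b : B, b • (g * n) = g * n := by
  classical
  have : Fintype B := Fintype.ofFinite B
  let cN : CommGroup ↥N :=
    { (inferInstance : Group ↥N) with mul_comm := fun x y => Subtype.ext (hNcomm x x.2 y y.2) }
  let aN : MulDistribMulAction B ↥N :=
    { smul := fun b n => ⟨b • (n : G), hNB b n n.2⟩
      one_smul := fun n => Subtype.ext (one_smul B (n : G))
      mul_smul := fun b c n => Subtype.ext (mul_smul b c (n : G))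
      smul_mul := fun b m n => Subtype.ext (smul_mul' b (m : G) (n : G))
      smul_one := fun b => Subtype.ext (smul_one b) }
  have hsm : ∀ (b : B) (n : ↥N), ((b • n : ↥N) : G) = b • (n : G) := fun _ _ => rfl
  obtain ⟨n, hn⟩ := cl_abstract (B := B) (A := ↥N) hcop (fun b => ⟨g⁻¹ * b • g, hg b⟩) (by
    intro b c
    apply Subtype.ext
    show g⁻¹ * (b * c) • g = (g⁻¹ * b • g) * b • (g⁻¹ * c • g)
    rw [smul_mul', smul_inv', mul_smul]
    group)
  refine ⟨(n : G), n.2, fun b => ?_⟩
  have h1 := congrArg Subtype.val (hn b)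
  have h2 : (g⁻¹ * b • g) * b • (n : G) = (n : G) := h1
  rw [smul_mul']
  calc b • g * b • (n : G) = g * ((g⁻¹ * b • g) * b • (n : G)) := by group
    _ = g * (n : G) := by rw [h2]

end Cfsg.Agent.Lib.Helper66.S3
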