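import Cfsg.Agent.Lib.Helper66.S3Defs
import Cfsg.Agent.Lib.Helper66.S3.CL

/-! # S3 hive (S4305, helper66), leaf CLS (helper80): coprime lifting of fixed points, solvable normal kernel.

Strong induction on `|N|`: if `N ≠ 1` then `⁅N, N⁆ < N`; `CL` in the quotient `G ⧸ ⁅N, N⁆` (with the induced action
`cls_quotAction`) moves `g` by an element of `N` so that the cocycle falls into `⁅N, N⁆`, and the induction hypothesis for
`⁅N, N⁆` finishes. -/

set_option autoImplicit false
set_option linter.style.haveILetI false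

namespace Cfsg.Agent.Lib.Helper66.S3

open scoped commutatorElement

theorem cls_le_comap {B G : Type*} [Group B] [Group G] [MulDistribMulAction B G]
    (K : Subgroup G) (hK : ∀ b : B, ∀ k ∈ K, b • k ∈ K) (b : B) :
    K ≤ K.comap (MulDistribMulAction.toMonoidHom G b) := fun k hk => hK b k hk

/-- induced action on the quotient by an invariant normal subgroup -/
@[reducible] def cls_quotAction {B G : Type*} [Group B] [Group G] [MulDistribMulAction B G]
    (K : Subgroup G) [K.Normal] (hK : ∀ b : B, ∀ k ∈ K, b • k ∈ K) :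
    MulDistribMulAction B (G ⧸ K) where
  smul b := QuotientGroup.map K K (MulDistribMulAction.toMonoidHom G b) (cls_le_comap K hK b)
  one_smul := by
    intro x
    induction x using QuotientGroup.induction_on with
    | H x =>
      show QuotientGroup.map K K (MulDistribMulAction.toMonoidHom G (1 : B)) _ (x : G ⧸ K) = x
      rw [QuotientGroup.map_mk]
      simp
  mul_smul := by
    intro b b' x
    induction x using QuotientGroup.induction_on with
    | H x =>
      show QuotientGroup.map K K (MulDistribMulAction.toMonoidHom G (b * b')) _ (x : G ⧸ K) =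
        QuotientGroup.map K K (MulDistribMulAction.toMonoidHom G b) _
          (QuotientGroup.map K K (MulDistribMulAction.toMonoidHom G b') _ (x : G ⧸ K))
      rw [QuotientGroup.map_mk, QuotientGroup.map_mk, QuotientGroup.map_mk]
      simp [mul_smul]
  smul_mul := by
    intro b x y
    exact map_mul (QuotientGroup.map K K (MulDistribMulAction.toMonoidHom G b) _) x y
  smul_one := by
    intro b
    exact map_one (QuotientGroup.map K K (MulDistribMulAction.toMonoidHom G b) _)

theorem cls_quot_smul_mk {B G : Type*} [Group B] [Group G] [MulDistribMulAction B G]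
    (K : Subgroup G) [K.Normal] (hK : ∀ b : B, ∀ k ∈ K, b • k ∈ K) (b : B) (x : G) :
    letI := cls_quotAction K hK
    b • (x : G ⧸ K) = ((b • x : G) : G ⧸ K) := by
  letI := cls_quotAction K hK
  show QuotientGroup.map K K (MulDistribMulAction.toMonoidHom G b) _ (x : G ⧸ K) = _
  rw [QuotientGroup.map_mk]
  rfl

/-- relative step: move `g` by an element of `N` so that the cocycle falls into `⁅N, N⁆` -/
theorem cls_rel {B G : Type*} [Group B] [Finite B] [Group G] [Finite G]
    [MulDistribMulAction B G] (N : Subgroup G) [N.Normal]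
    (hcop : (Nat.card N).Coprime (Nat.card B)) (hNB : ∀ b : B, ∀ n ∈ N, b • n ∈ N) (g : G)
    (hg : ∀ b : B, g⁻¹ * b • g ∈ N) :
    ∃ n ∈ N, ∀ b : B, (g * n)⁻¹ * b • (g * n) ∈ ⁅N, N⁆ := by
  have hK : ∀ b : B, ∀ k ∈ ⁅N, N⁆, b • k ∈ ⁅N, N⁆ := by
    intro b
    have : ⁅N, N⁆ ≤ (⁅N, N⁆).comap (MulDistribMulAction.toMonoidHom G b) := by
      rw [Subgroup.commutator_le]
      intro x hx y hy
      rw [Subgroup.mem_comap, map_commutatorElement]
      exact Subgroup.commutator_mem_commutator (hNB b x hx) (hNB b y hy)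
    intro k hk
    exact this hk
  letI := cls_quotAction ⁅N, N⁆ hK
  have hsm : ∀ (b : B) (x : G), b • (x : G ⧸ ⁅N, N⁆) = ((b • x : G) : G ⧸ ⁅N, N⁆) :=
    fun b x => cls_quot_smul_mk ⁅N, N⁆ hK b x
  obtain ⟨nb, hnb, hfix⟩ := coprime_lift (B := B) (G := G ⧸ ⁅N, N⁆)
    (N.map (QuotientGroup.mk' ⁅N, N⁆))
    (by
      rintro _ ⟨a, ha, rfl⟩ _ ⟨c, hc, rfl⟩
      show ((a : G ⧸ ⁅N, N⁆)) * (c : G ⧸ ⁅N, N⁆) = (c : G ⧸ ⁅N, N⁆) * (a : G ⧸ ⁅N, N⁆)
      rw [← QuotientGroup.mk_mul, ← QuotientGroup.mk_mul, QuotientGroup.eq]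
      have h1 : (a * c)⁻¹ * (c * a) = ⁅c⁻¹, a⁻¹⁆ := by
        rw [commutatorElement_def]; group
      rw [h1]
      exact Subgroup.commutator_mem_commutator (N.inv_mem hc) (N.inv_mem ha))
    (Nat.Coprime.coprime_dvd_left (Subgroup.card_map_dvd N _) hcop)
    (by
      rintro b _ ⟨a, ha, rfl⟩
      show b • ((a : G ⧸ ⁅N, N⁆)) ∈ _
      rw [hsm]
      exact ⟨b • a, hNB b a ha, rfl⟩)
    (g : G ⧸ ⁅N, N⁆)
    (by
      intro b
      rw [hsm]
      exact ⟨g⁻¹ * b • g, hg b, by simp⟩)
  obtain ⟨n, hn, rfl⟩ := hnb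
  refine ⟨n, hn, ?_⟩
  intro b
  have h := hfix b
  have h2 : b • (((g * n : G)) : G ⧸ ⁅N, N⁆) = ((g * n : G) : G ⧸ ⁅N, N⁆) := by
    rw [QuotientGroup.mk_mul]; exact h
  rw [hsm] at h2
  exact QuotientGroup.eq.mp h2.symm

/-- CLS: coprime lifting of fixed points, solvable normal kernel. -/
theorem coprime_lift_solv {B G : Type*} [Group B] [Finite B] [Group G] [Finite G]
    [MulDistribMulAction B G] (N : Subgroup G) [N.Normal] (hsolv : Group.IsSolvable N)
    (hcop : (Nat.card N).Coprime (Nat.card B)) (hNB : ∀ b : B, ∀ n ∈ N, b • n ∈ N) (g : G)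
    (hg : ∀ b : B, g⁻¹ * b • g ∈ N) : ∃ n ∈ N, ∀ b : B, b • (g * n) = g * n := by
  -- strong induction on the order of `N`
  suffices H : ∀ (k : ℕ) (N : Subgroup G) [N.Normal], Nat.card N = k → Group.IsSolvable N →
      (Nat.card N).Coprime (Nat.card B) → (∀ b : B, ∀ n ∈ N, b • n ∈ N) → ∀ g : G,
      (∀ b : B, g⁻¹ * b • g ∈ N) → ∃ n ∈ N, ∀ b : B, b • (g * n) = g * n from
    H _ N rfl hsolv hcop hNB g hg
  intro k
  induction k using Nat.strong_induction_on with
  | _ k ih =>
    intro N _ hk hsolv hcop hNB g hg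
    by_cases hN : N = ⊥
    · refine ⟨1, N.one_mem, ?_⟩
      intro b
      have h := hg b
      rw [hN, Subgroup.mem_bot] at h
      rw [mul_one]
      calc b • g = g * (g⁻¹ * b • g) := by group
        _ = g := by rw [h, mul_one]
    · -- `⁅N, N⁆ < N`
      have hlt : ⁅N, N⁆ < N := by
        haveI : Nontrivial ↥N := (Subgroup.nontrivial_iff_ne_bot N).mpr hN
        haveI := hsolv
        have h := Group.IsSolvable.commutator_lt_top_of_nontrivial ↥N
        have h2 := Subgroup.map_subtype_lt_map_subtype.mpr h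
        rwa [Subgroup.map_subtype_commutator, ← MonoidHom.range_eq_map, N.range_subtype] at h2
      obtain ⟨n, hn, hrel⟩ := cls_rel N hcop hNB g hg
      have hKB : ∀ b : B, ∀ x ∈ ⁅N, N⁆, b • x ∈ ⁅N, N⁆ := by
        intro b
        have : ⁅N, N⁆ ≤ (⁅N, N⁆).comap (MulDistribMulAction.toMonoidHom G b) := by
          rw [Subgroup.commutator_le]
          intro x hx y hy
          rw [Subgroup.mem_comap, map_commutatorElement]
          exact Subgroup.commutator_mem_commutator (hNB b x hx) (hNB b y hy)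
        intro x hx
        exact this hx
      have hKsolv : Group.IsSolvable ↥(⁅N, N⁆) := by
        haveI := hsolv
        exact Group.isSolvable_of_isSolvable_injective (Subgroup.inclusion_injective hlt.le)
      have hKcop : (Nat.card ↥(⁅N, N⁆)).Coprime (Nat.card B) :=
        Nat.Coprime.coprime_dvd_left (Subgroup.card_dvd_of_le hlt.le) hcop
      have hcardlt : Nat.card ↥(⁅N, N⁆) < k := by
        rw [← hk]
        refine lt_of_le_of_ne (Subgroup.card_le_of_le hlt.le) ?_
        intro heq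
        exact hlt.ne (Subgroup.eq_of_le_of_card_ge hlt.le heq.ge)
      obtain ⟨c, hc, hfix⟩ := ih _ hcardlt ⁅N, N⁆ rfl hKsolv hKcop hKB (g * n) hrel
      refine ⟨n * c, N.mul_mem hn (hlt.le hc), ?_⟩
      intro b
      rw [← mul_assoc]
      exact hfix b

end Cfsg.Agent.Lib.Helper66.S3
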