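import Cfsg.Agent.Lib.Helper66.S3Defs
import Cfsg.Agent.Lib.Helper66.S3.D4
import Cfsg.Agent.Lib.Helper66.S3.D6
import Cfsg.Agent.Lib.Helper11.S3D9core

set_option autoImplicit false

namespace Cfsg.Agent.Lib.Helper66.S3

universe u

section decomp

variable {H V : Type u} [Group H] [CommGroup V] [MulDistribMulAction A3 H]
  [MulDistribMulAction A3 V] [MulDistribMulAction H V] {p r : ℕ} {F : Subgroup H}

/-- D9: no regular orbit: every component has a nontrivial stabilizer in `A3`, without fixed points
on the component. -/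
theorem comp_stab (cfg : Config H V p r F) (C : Subgroup H) (hC : comp (V := V) F C ≠ ⊥) :
    ∃ a : A3, a ≠ 1 ∧ mapA a C = C ∧
      ∀ v ∈ comp (V := V) F C, (∀ b : A3, mapA b C = C → b • v = v) → v = 1 :=
  d9_core cfg (fun C a v hv => comp_smulA cfg C a v hv) (comp_indep cfg) C hC

end decomp

end Cfsg.Agent.Lib.Helper66.S3
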