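import Cfsg.Agent.Lib.Helper97.S3C1Acore
import Cfsg.Agent.Lib.Helper66.S3.D5
import Cfsg.Agent.Lib.Helper66.S3.D7
import Cfsg.Agent.Lib.Helper66.S3.D9
import Cfsg.Agent.Lib.Helper66.S3.SL

/-! # S3 hive (S4305, owner helper66): leaf C1A (helper97): exact-name wrapper of `c1a_core` -/

set_option autoImplicit false

namespace Cfsg.Agent.Lib.Helper66.S3

universe u

variable {H V : Type u} [Group H] [CommGroup V] [MulDistribMulAction A3 H]
  [MulDistribMulAction A3 V] [MulDistribMulAction H V] {p r : ℕ} {F : Subgroup H}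

/-- C1A: configuration C, `H` moves a component, `σ` trivial on `H/F`. -/
theorem configC_moved_1a_false (cfg : Config H V p r F)
    (hself : ∀ h : H, (∀ f ∈ F, h * f = f * h) → h ∈ F)
    (hmov : ∃ (h : H) (C : Subgroup H), comp (V := V) F C ≠ ⊥ ∧ mapH h C ≠ C)
    (hs : ∀ h : H, h⁻¹ * sig • h ∈ F) : False :=
  c1a_core cfg (iSup_comp cfg) (fun C C' hC hC' => comp_trans cfg C C' hC hC')
    (fun C hC => comp_stab cfg C hC) (fun C hC hσ hW => lemSL cfg C hC hσ hW) hmov hs

end Cfsg.Agent.Lib.Helper66.S3
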