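import Cfsg.Agent.Lib.Helper66.S3Defs

/-! # S3 hive (S4305, helper66): shared glue for TC and C1B (helper2).
If every component `C` has an involution of `A3` fixing every `H`-translate of `C` and inverting the
corresponding component of `V`, then lemma T applies and `H` is abelian: contradiction.
The leaves D3, D4, D5, T enter as hypotheses, so this file depends on `S3Defs` only. -/

set_option autoImplicit false

namespace Cfsg.Agent.Lib.Helper66.S3

universe u

section glue

variable {H V : Type u} [Group H] [CommGroup V] [MulDistribMulAction A3 H]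
  [MulDistribMulAction A3 V] [MulDistribMulAction H V] {p r : ℕ} {F : Subgroup H}

theorem glue_mem_mapA (a : A3) (C : Subgroup H) (x : H) :
    x ∈ mapA a C ↔ ∃ c ∈ C, a • c = x := by
  unfold mapA
  constructor
  · rintro ⟨c, hc, e⟩
    exact ⟨c, hc, e⟩
  · rintro ⟨c, hc, e⟩
    exact ⟨c, hc, e⟩

omit [MulDistribMulAction A3 H] in
theorem glue_mem_mapH (h : H) (C : Subgroup H) (x : H) :
    x ∈ mapH h C ↔ ∃ c ∈ C, h * c * h⁻¹ = x := by
  unfold mapH
  rw [Subgroup.mem_map]
  simp [MulAut.conj_apply]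

omit [MulDistribMulAction A3 H] in
theorem glue_mapH_one (C : Subgroup H) : mapH 1 C = C := by
  ext x
  rw [glue_mem_mapH]
  constructor
  · rintro ⟨c, hc, rfl⟩
    simpa using hc
  · intro hx
    exact ⟨x, hx, by simp⟩

omit [MulDistribMulAction A3 H] in
theorem glue_mapH_mapH (h h' : H) (C : Subgroup H) : mapH h' (mapH h C) = mapH (h' * h) C := by
  ext x
  simp only [glue_mem_mapH]
  constructor
  · rintro ⟨_, ⟨c, hc, rfl⟩, rfl⟩
    exact ⟨c, hc, by group⟩
  · rintro ⟨c, hc, rfl⟩
    exact ⟨h * c * h⁻¹, ⟨c, hc, rfl⟩, by group⟩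

theorem glue_mapA_mapA (a b : A3) (C : Subgroup H) : mapA a (mapA b C) = mapA (a * b) C := by
  ext x
  simp only [glue_mem_mapA]
  constructor
  · rintro ⟨_, ⟨c, hc, rfl⟩, rfl⟩
    exact ⟨c, hc, by rw [mul_smul]⟩
  · rintro ⟨c, hc, rfl⟩
    exact ⟨b • c, ⟨c, hc, rfl⟩, by rw [mul_smul]⟩

theorem glue_mapA_one (C : Subgroup H) : mapA (1 : A3) C = C := by
  ext x
  simp only [glue_mem_mapA]
  constructor
  · rintro ⟨c, hc, rfl⟩
    simpa using hc
  · intro hx
    exact ⟨x, hx, by simp⟩

/-- `h (b C) h⁻¹ = b ((b⁻¹ h) C (b⁻¹ h)⁻¹)`. -/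
theorem glue_mapH_mapA (h : H) (b : A3) (C : Subgroup H) :
    mapH h (mapA b C) = mapA b (mapH (b⁻¹ • h) C) := by
  ext x
  simp only [glue_mem_mapA, glue_mem_mapH]
  constructor
  · rintro ⟨_, ⟨c, hc, rfl⟩, rfl⟩
    refine ⟨(b⁻¹ • h) * c * (b⁻¹ • h)⁻¹, ⟨c, hc, rfl⟩, ?_⟩
    rw [smul_mul', smul_mul', smul_inv', smul_inv_smul]
  · rintro ⟨_, ⟨c, hc, rfl⟩, rfl⟩
    refine ⟨b • c, ⟨c, hc, rfl⟩, ?_⟩
    rw [smul_mul', smul_mul', smul_inv', smul_inv_smul]

/-- the involutions of `S₃` are the three conjugates of `τ` under `1, σ, σ²`. -/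
theorem glue_involutions : ∀ t : A3, t ≠ 1 → t * t = 1 →
    t = tau ∨ t = sig * tau * sig⁻¹ ∨ t = (sig * sig) * tau * (sig * sig)⁻¹ := by
  unfold A3 sig tau
  decide

theorem glue_sig_inv : (sig : A3)⁻¹ = sig * sig := by
  unfold A3 sig
  decide

theorem glue_sigsig_inv : ((sig : A3) * sig)⁻¹ = sig := by
  unfold A3 sig
  decide

theorem glue_tau_sq : (tau : A3) * tau = 1 := by
  unfold A3 tau
  decide

/-- the property "`t` fixes every `H`-translate of `C` and inverts its component". -/
def GlueP (F : Subgroup H) (V : Type u) [CommGroup V] [MulDistribMulAction A3 V]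
    [MulDistribMulAction H V] (t : A3) (C : Subgroup H) : Prop :=
  ∀ h : H, mapA t (mapH h C) = mapH h C ∧ ∀ w ∈ comp (V := V) F (mapH h C), t • w = w⁻¹

/-- transport of `GlueP` along `b : A3`. -/
theorem glueP_transport
    (hD4 : ∀ (C : Subgroup H) (a : A3) (v : V), v ∈ comp F C → a • v ∈ comp F (mapA a C))
    (t b : A3) (C : Subgroup H) (hP : GlueP F V t C) : GlueP F V (b * t * b⁻¹) (mapA b C) := by
  intro h
  rw [glue_mapH_mapA]
  obtain ⟨h1, h2⟩ := hP (b⁻¹ • h)
  constructor
  · rw [glue_mapA_mapA]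
    have : b * t * b⁻¹ * b = b * t := by group
    rw [this, ← glue_mapA_mapA, h1]
  · intro w hw
    have h3 := hD4 _ b⁻¹ w hw
    rw [glue_mapA_mapA, inv_mul_cancel, glue_mapA_one] at h3
    have h4 := h2 _ h3
    rw [mul_smul, mul_smul, h4, smul_inv', smul_inv_smul]

/-- Shared end of TC and C1B: if every component has an involution fixing all its `H`-translates and
inverting their components, then `H` is abelian by lemma T: contradiction. -/
theorem invert_glue (cfg : Config H V p r F)
    (hD3 : ∀ (C : Subgroup H) (h : H) (v : V), v ∈ comp F C → h • v ∈ comp F (mapH h C))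
    (hD4 : ∀ (C : Subgroup H) (a : A3) (v : V), v ∈ comp F C → a • v ∈ comp F (mapA a C))
    (hD5 : ⨆ C : Subgroup H, comp (V := V) F C = ⊤)
    (hT : ∀ D : Subgroup H, D.Normal → (∀ h : H, h⁻¹ * tau • h ∈ D) →
      (∀ h : H, h ∈ D → sig • h ∈ D → (sig * sig) • h ∈ D → h = 1) → ∀ x y : H, x * y = y * x)
    (hinv : ∀ C : Subgroup H, comp (V := V) F C ≠ ⊥ → ∃ t : A3, t ≠ 1 ∧ t * t = 1 ∧
      ∀ h : H, mapA t (mapH h C) = mapH h C ∧ ∀ w ∈ comp (V := V) F (mapH h C), t • w = w⁻¹) :
    False := by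
  classical
  have compat := cfg.hyp.compat
  -- `W1`
  let W1 : Subgroup V := ⨆ (C : Subgroup H) (_ : GlueP F V tau C), comp (V := V) F C
  have hW1le : ∀ C : Subgroup H, GlueP F V tau C → comp (V := V) F C ≤ W1 := fun C hC =>
    le_iSup₂ (f := fun (C : Subgroup H) (_ : GlueP F V tau C) => comp (V := V) F C) C hC
  -- B1: `τ` inverts `W1`
  let S : Subgroup V :=
    { carrier := {w | tau • w = w⁻¹}
      one_mem' := by simp
      mul_mem' := by
        intro x y hx hy
        simp only [Set.mem_ofPred_eq] at hx hy ⊢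
        rw [smul_mul', hx, hy, mul_inv]
      inv_mem' := by
        intro x hx
        simp only [Set.mem_ofPred_eq] at hx ⊢
        rw [smul_inv', hx] }
  have hB1 : ∀ w ∈ W1, tau • w = w⁻¹ := by
    have hle : W1 ≤ S := by
      refine iSup₂_le ?_
      intro C hC w hw
      have := (hC 1).2 w (by rw [glue_mapH_one]; exact hw)
      exact this
    intro w hw
    exact hle hw
  -- B2: `W1` is `H`-invariant
  have hB2 : ∀ (h : H), ∀ w ∈ W1, h • w ∈ W1 := by
    intro h
    have hle : W1 ≤ W1.comap (MulDistribMulAction.toMonoidHom V h) := by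
      refine iSup₂_le ?_
      intro C hC w hw
      rw [Subgroup.mem_comap]
      show h • w ∈ W1
      have hQ : GlueP F V tau (mapH h C) := by
        intro h'
        rw [glue_mapH_mapH]
        exact hC (h' * h)
      exact hW1le _ hQ (hD3 C h w hw)
    intro w hw
    exact hle hw
  -- B3: the kernel of `H` on `W1`
  let D : Subgroup H :=
    { carrier := {h | ∀ w ∈ W1, h • w = w}
      one_mem' := fun w _ => one_smul H w
      mul_mem' := by
        intro x y hx hy w hw
        rw [mul_smul, hy w hw, hx w hw]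
      inv_mem' := by
        intro x hx w hw
        have := hx w hw
        calc x⁻¹ • w = x⁻¹ • (x • w) := by rw [this]
          _ = w := by rw [inv_smul_smul] }
  have hDmem : ∀ h : H, h ∈ D ↔ ∀ w ∈ W1, h • w = w := fun h => Iff.rfl
  have hDn : D.Normal := by
    refine ⟨fun n hn g => ?_⟩
    rw [hDmem] at hn ⊢
    intro w hw
    have h1 := hB2 g⁻¹ w hw
    rw [mul_smul, mul_smul, hn _ h1, smul_inv_smul]
  -- B4
  have hD : ∀ h : H, h⁻¹ * tau • h ∈ D := by
    intro h
    rw [hDmem]
    intro w hw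
    have h1 : tau • (tau • w) = w := by rw [← mul_smul, glue_tau_sq, one_smul]
    have h2 : (tau • h) • w = h • w := by
      calc (tau • h) • w = (tau • h) • (tau • (tau • w)) := by rw [h1]
        _ = tau • (h • (tau • w)) := (compat tau h (tau • w)).symm
        _ = tau • (h • w⁻¹) := by rw [hB1 w hw]
        _ = tau • (h • w)⁻¹ := by rw [smul_inv']
        _ = ((h • w)⁻¹)⁻¹ := hB1 _ (W1.inv_mem (hB2 h w hw))
        _ = h • w := inv_inv _
    rw [mul_smul, h2, inv_smul_smul]
  -- B5
  have hint : ∀ h : H, h ∈ D → sig • h ∈ D → (sig * sig) • h ∈ D → h = 1 := by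
    intro h h0 h1 h2
    apply cfg.faithful
    let Fx : Subgroup V :=
      { carrier := {v | h • v = v}
        one_mem' := by simp
        mul_mem' := by
          intro x y hx hy
          simp only [Set.mem_ofPred_eq] at hx hy ⊢
          rw [smul_mul', hx, hy]
        inv_mem' := by
          intro x hx
          simp only [Set.mem_ofPred_eq] at hx ⊢
          rw [smul_inv', hx] }
    have key : ∀ (a : A3) (C : Subgroup H), a⁻¹ • h ∈ D → GlueP F V (a * tau * a⁻¹) C →
        comp (V := V) F C ≤ Fx := by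
      intro a C haD hP w hw
      have hQ := glueP_transport hD4 (a * tau * a⁻¹) a⁻¹ C hP
      have e : a⁻¹ * (a * tau * a⁻¹) * a⁻¹⁻¹ = tau := by group
      rw [e] at hQ
      have hw1 : a⁻¹ • w ∈ W1 := hW1le _ hQ (hD4 C a⁻¹ w hw)
      have h3 := (hDmem _).mp haD _ hw1
      rw [← compat] at h3
      exact smul_left_cancel _ h3
    have hle : (⨆ C : Subgroup H, comp (V := V) F C) ≤ Fx := by
      refine iSup_le ?_
      intro C
      by_cases hC : comp (V := V) F C = ⊥
      · rw [hC]; exact bot_le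
      · obtain ⟨t, ht1, ht2, hP⟩ := hinv C hC
        rcases glue_involutions t ht1 ht2 with rfl | rfl | rfl
        · have e : (1 : A3) * tau * 1⁻¹ = tau := by group
          exact key 1 C (by rw [inv_one, one_smul]; exact h0) (by rw [e]; exact hP)
        · exact key sig C (by rw [glue_sig_inv]; exact h2) hP
        · exact key (sig * sig) C (by rw [glue_sigsig_inv]; exact h1) hP
    rw [hD5] at hle
    intro v
    exact hle (Subgroup.mem_top v)
  obtain ⟨x, y, hxy⟩ := cfg.nonab
  exact hxy (hT D hDn hD hint x y)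

end glue

end Cfsg.Agent.Lib.Helper66.S3
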