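import Cfsg.Agent.Lib.Helper66.S3Defs
import Cfsg.Agent.Lib.Helper66.S3.D3
import Cfsg.Agent.Lib.Helper66.S3.D4
import Cfsg.Agent.Lib.Helper66.S3.D5
import Cfsg.Agent.Lib.Helper66.S3.D9
import Cfsg.Agent.Lib.Helper66.S3.T
import Cfsg.Agent.Lib.Helper66.S3.GLUE
import Cfsg.Agent.Lib.Helper32.S3C1Bbase
import Cfsg.Agent.Lib.Helper32.S3C1BG6
import Cfsg.Agent.Lib.Helper25.S3C1BG4
import Cfsg.Agent.Lib.Helper90.S3C1BG6a
import Cfsg.Agent.Lib.Helper90.S3C1BG6s
import Cfsg.Agent.Lib.Helper61.S3C1BG5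
import Cfsg.Agent.Lib.Helper90.S3C1BG6f
import Cfsg.Agent.Lib.Helper70.S3C1BG7
import Cfsg.Agent.Lib.Helper32.S3C1BG23

/-!
# S3 hive (S4305, owner helper66): leaf C1B `configC_moved_1b_false` (assembly by helper32).

Sub-leaves: G1-G3 `Helper32.S3C1Bbase` / `Helper32.S3C1BG23`, G4 helper25, G5 helper61, G6 (`Helper32.S3C1BG6`,
helper90's `c1bx_r_ge_five`, `c1bx_index`, `c1bx_sig_set`, `c1bx_fixset`), G7 helper70, end game = helper2's
`invert_glue` + helper75's `lemT`.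
-/

set_option autoImplicit false

namespace Cfsg.Agent.Lib.Helper66.S3

universe u

section decomp

variable {H V : Type u} [Group H] [CommGroup V] [MulDistribMulAction A3 H]
  [MulDistribMulAction A3 V] [MulDistribMulAction H V] {p r : ℕ} {F : Subgroup H}

/-- G6: an involution of `A3` fixing the whole `H`-orbit of `C`. -/
theorem c1b_exists_invol (cfg : Config H V p r F)
    (hfpf : ∀ h : H, h⁻¹ * sig • h ∈ F → h ∈ F)
    (C : Subgroup H) (hC : comp (V := V) F C ≠ ⊥) (hCtop : ∃ h : H, mapH h C ≠ C) :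
    ∃ t : A3, t ≠ 1 ∧ t * t = 1 ∧ ∀ h : H, mapA t (mapH h C) = mapH h C := by
  have := cfg.hyp.finH
  have hone : ∀ (C : Subgroup H), comp (V := V) F C ≠ ⊥ → mapA sig C = C → ∀ h : H,
      mapA sig (mapH h C) = mapH h C → mapH h C = C :=
    fun C hC hsC h hsh => c1b_sig_one_point cfg hfpf C hC hsC h hsh
  apply c1b_exists_invol_core (c1bx_r_ge_five cfg) C
  · intro h
    obtain ⟨a, ha1, ha, -⟩ := comp_stab cfg (mapH h C) (c1b_Om_mapH cfg C hC h)
    exact ⟨a, ha1, ha⟩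
  · exact c1bx_sig_set cfg hone C hC hCtop
  · intro a
    obtain ⟨M, hFM, hM, hcard⟩ := c1bx_fixset cfg C hC a
    by_cases hMtop : M = ⊤
    · left
      exact hM hMtop
    · right
      have h1 := c1bx_index cfg M hFM hMtop
      calc Set.ncard {h : H | mapA a (mapH h C) = mapH h C} * r
          ≤ Nat.card M * r := Nat.mul_le_mul_right r hcard
        _ = r * Nat.card M := mul_comm _ _
        _ ≤ Nat.card H := h1

/-- C1B: configuration C, `H` moves a component, `σ` nontrivial on `H/F`. -/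
theorem configC_moved_1b_false (cfg : Config H V p r F)
    (hself : ∀ h : H, (∀ f ∈ F, h * f = f * h) → h ∈ F)
    (hmov : ∃ (h : H) (C : Subgroup H), comp (V := V) F C ≠ ⊥ ∧ mapH h C ≠ C)
    (hs : ¬ ∀ h : H, h⁻¹ * sig • h ∈ F) : False := by
  have hfpf := c1b_sig_fpf cfg hs
  have hone : ∀ (C : Subgroup H), comp (V := V) F C ≠ ⊥ → mapA sig C = C → ∀ h : H,
      mapA sig (mapH h C) = mapH h C → mapH h C = C :=
    fun C hC hsC h hsh => c1b_sig_one_point cfg hfpf C hC hsC h hsh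
  apply invert_glue cfg (comp_smulH cfg) (comp_smulA cfg) (iSup_comp cfg)
    (fun D hDn hD hint => by
      have := hDn
      have := cfg.hyp.finH
      exact lemT cfg.hyp.copH cfg.hyp.fpfH D hD hint)
  intro C hC
  obtain ⟨t, ht1, htt, hfix⟩ := c1b_exists_invol cfg hfpf C hC (c1b_stab_ne_top cfg hmov C hC)
  refine ⟨t, ht1, htt, fun h => ⟨hfix h, ?_⟩⟩
  have hC' := c1b_Om_mapH cfg C hC h
  apply c1b_inverts cfg hone (mapH h C) hC' (c1b_stab_ne_top cfg hmov _ hC') t ht1 htt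
  intro k
  rw [← c1b_mapH_mul]
  exact hfix (k * h)

end decomp

end Cfsg.Agent.Lib.Helper66.S3
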