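import Cfsg.Agent.Lib.Helper66.S3Defs

/-! # S3 hive (S4305, owner helper66): leaf D8 `comp_cyc` (parallel hand: helper69)

`F/C` acts faithfully on a minimal `F`-invariant subgroup `U` with kernel `C`; the subring of `End U`
generated by `F` is a commutative domain, so the image of `F` in its units is cyclic; hence any two
endomorphisms of `F` preserving `C` commute modulo `C`.  Applied to conjugation by `h` and the action of `a`. -/

set_option autoImplicit false

namespace Cfsg.Agent.Lib.Helper66.S3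

universe u

section d8aux

/-- abstract: two endomorphisms of `F'` preserving the kernel of a hom `ρ` into a commutative group with
cyclic range commute modulo that kernel. -/
theorem d8_endo_comm {F' K : Type*} [Group F'] [CommGroup K] (ρ : F' →* K) (hcyc : IsCyclic ρ.range)
    (φ ψ : F' →* F') (hφ : ∀ x, ρ x = 1 → ρ (φ x) = 1) (hψ : ∀ x, ρ x = 1 → ρ (ψ x) = 1) (f : F') :
    ρ (φ (ψ f)) = ρ (ψ (φ f)) := by
  obtain ⟨⟨γ, hγr⟩, hγ⟩ := hcyc.exists_generator
  obtain ⟨g, rfl⟩ := hγr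
  have hpow : ∀ f : F', ∃ z : ℤ, ρ f = ρ g ^ z := by
    intro f
    have := hγ ⟨ρ f, f, rfl⟩
    obtain ⟨z, hz⟩ := Subgroup.mem_zpowers_iff.mp this
    refine ⟨z, ?_⟩
    have := congrArg Subtype.val hz
    simpa using this.symm
  have key : ∀ χ : F' →* F', (∀ x, ρ x = 1 → ρ (χ x) = 1) → ∃ m : ℤ, ∀ f, ρ (χ f) = ρ f ^ m := by
    intro χ hχ
    obtain ⟨m, hm⟩ := hpow (χ g)
    refine ⟨m, fun f => ?_⟩
    obtain ⟨z, hz⟩ := hpow f
    have h1 : ρ (f⁻¹ * g ^ z) = 1 := by rw [map_mul, map_inv, map_zpow, hz, inv_mul_cancel]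
    have h2 := hχ _ h1
    rw [map_mul, map_inv, map_zpow, map_mul, map_inv, map_zpow, hm] at h2
    have h3 : ρ (χ f) = (ρ g ^ m) ^ z := by
      rw [inv_mul_eq_one] at h2; exact h2
    rw [h3, hz, ← zpow_mul, ← zpow_mul, mul_comm]
  obtain ⟨m, hm⟩ := key φ hφ
  obtain ⟨n, hn⟩ := key ψ hψ
  rw [hm, hn, hn, hm, ← zpow_mul, ← zpow_mul, mul_comm]

/-- the ring step: the image of `F` in the units of the (commutative, domain) subring of `End U` generated by
`F` is cyclic; consequence for endomorphisms of `F`. -/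
theorem d8_comm_mod_ker {H V : Type u} [Group H] [Finite H] [CommGroup V] [MulDistribMulAction H V]
    (F : Subgroup H) (hFc : ∀ x ∈ F, ∀ y ∈ F, x * y = y * x) (U : Subgroup V) (hU : IsMinInv F U)
    (φ ψ : ↥F →* ↥F) (hφ : ∀ x : ↥F, (x : H) ∈ kerOn F U → ((φ x : ↥F) : H) ∈ kerOn F U)
    (hψ : ∀ x : ↥F, (x : H) ∈ kerOn F U → ((ψ x : ↥F) : H) ∈ kerOn F U) (f : ↥F) :
    (((φ (ψ f))⁻¹ * ψ (φ f) : ↥F) : H) ∈ kerOn F U := by
  classical
  obtain ⟨hUne, hUinv, hUmin⟩ := hU
  -- the action endomorphisms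
  let act : ↥F → (↥U →* ↥U) := fun f =>
    { toFun := fun u => ⟨(f : H) • (u : V), hUinv f f.2 u u.2⟩
      map_one' := Subtype.ext (smul_one _)
      map_mul' := fun a b => Subtype.ext (smul_mul' _ _ _) }
  have act_val : ∀ (f : ↥F) (u : ↥U), ((act f u : ↥U) : V) = (f : H) • (u : V) := fun f u => rfl
  let ρ₀ : ↥F →* AddMonoid.End (Additive ↥U) :=
    { toFun := fun f => MonoidHom.toAdditive (act f)
      map_one' := by
        refine AddMonoidHom.ext fun u => ?_
        show Additive.ofMul (act 1 (Additive.toMul u)) = u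
        have : act 1 (Additive.toMul u) = Additive.toMul u := Subtype.ext (by rw [act_val]; simp)
        rw [this]; rfl
      map_mul' := fun a b => by
        refine AddMonoidHom.ext fun u => ?_
        show Additive.ofMul (act (a * b) (Additive.toMul u)) =
          Additive.ofMul (act a (act b (Additive.toMul u)))
        congr 1
        exact Subtype.ext (by rw [act_val, act_val, act_val]; simp [mul_smul]) }
  have ρ₀_apply : ∀ (f : ↥F) (u : Additive ↥U), ρ₀ f u = Additive.ofMul (act f (Additive.toMul u)) :=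
    fun f u => rfl
  let s : Set (AddMonoid.End (Additive ↥U)) := Set.range ρ₀
  have hs : ∀ x ∈ s, ∀ y ∈ s, x * y = y * x := by
    rintro _ ⟨a, rfl⟩ _ ⟨b, rfl⟩
    rw [← map_mul, ← map_mul]
    congr 1
    exact Subtype.ext (hFc a a.2 b b.2)
  let R : Subring (AddMonoid.End (Additive ↥U)) := Subring.closure s
  have hRcomm : ∀ x y : ↥R, x * y = y * x := by
    intro x y
    exact (Subring.isMulCommutative_closure hs).is_comm.comm x y
  letI : CommRing ↥R := { (inferInstance : Ring ↥R) with mul_comm := hRcomm }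
  have hmemR : ∀ f : ↥F, ρ₀ f ∈ R := fun f => Subring.subset_closure ⟨f, rfl⟩
  have hcommact : ∀ (x : ↥R) (f : ↥F) (u : Additive ↥U),
      (x : AddMonoid.End (Additive ↥U)) (ρ₀ f u) = ρ₀ f ((x : AddMonoid.End (Additive ↥U)) u) := by
    intro x f u
    have h1 := hRcomm x ⟨ρ₀ f, hmemR f⟩
    have h2 : (x : AddMonoid.End (Additive ↥U)) * ρ₀ f = ρ₀ f * (x : AddMonoid.End (Additive ↥U)) :=
      congrArg Subtype.val h1
    exact DFunLike.congr_fun h2 u
  have hinj : ∀ x : ↥R, x = 0 ∨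
      ∀ u : Additive ↥U, (x : AddMonoid.End (Additive ↥U)) u = 0 → u = 0 := by
    intro x
    let K : Subgroup V :=
      { carrier := {v | ∃ hv : v ∈ U, (x : AddMonoid.End (Additive ↥U)) (Additive.ofMul ⟨v, hv⟩) = 0}
        one_mem' := ⟨U.one_mem, map_zero (x : AddMonoid.End (Additive ↥U))⟩
        mul_mem' := by
          rintro a b ⟨ha, ha'⟩ ⟨hb, hb'⟩
          refine ⟨U.mul_mem ha hb, ?_⟩
          have e : (Additive.ofMul (⟨a * b, U.mul_mem ha hb⟩ : ↥U)) =
              Additive.ofMul (⟨a, ha⟩ : ↥U) + Additive.ofMul (⟨b, hb⟩ : ↥U) := rfl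
          rw [e, map_add, ha', hb', add_zero]
        inv_mem' := by
          rintro a ⟨ha, ha'⟩
          refine ⟨U.inv_mem ha, ?_⟩
          have e : (Additive.ofMul (⟨a⁻¹, U.inv_mem ha⟩ : ↥U)) = - Additive.ofMul (⟨a, ha⟩ : ↥U) := rfl
          rw [e, map_neg, ha', neg_zero] }
    have hKU : K ≤ U := fun v hv => by obtain ⟨h, _⟩ := hv; exact h
    have hKinv : ∀ f ∈ F, ∀ w ∈ K, f • w ∈ K := by
      rintro f hf w ⟨hw, hw'⟩
      refine ⟨hUinv f hf w hw, ?_⟩
      have h1 := hcommact x ⟨f, hf⟩ (Additive.ofMul ⟨w, hw⟩)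
      have e : ρ₀ ⟨f, hf⟩ (Additive.ofMul (⟨w, hw⟩ : ↥U)) =
          Additive.ofMul (⟨f • w, hUinv f hf w hw⟩ : ↥U) := rfl
      rw [e, hw', map_zero] at h1
      exact h1
    rcases hUmin K hKU hKinv with h0 | h1
    · right
      intro u hu
      have h2 : ((Additive.toMul u : ↥U) : V) ∈ K := ⟨(Additive.toMul u).2, hu⟩
      rw [h0, Subgroup.mem_bot] at h2
      have h3 : (Additive.toMul u : ↥U) = 1 := Subtype.ext h2
      exact h3
    · left
      apply Subtype.ext
      refine AddMonoidHom.ext fun u => ?_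
      have h2 : ((Additive.toMul u : ↥U) : V) ∈ K := by rw [h1]; exact (Additive.toMul u).2
      obtain ⟨_, h⟩ := h2
      exact h
  haveI : NoZeroDivisors ↥R := ⟨by
    intro x y hxy
    rcases hinj x with hx | hx
    · left; exact hx
    · right
      apply Subtype.ext
      refine AddMonoidHom.ext fun u => ?_
      have h1 : (x : AddMonoid.End (Additive ↥U)) * (y : AddMonoid.End (Additive ↥U)) = 0 :=
        congrArg Subtype.val hxy
      have h2 : (x : AddMonoid.End (Additive ↥U)) ((y : AddMonoid.End (Additive ↥U)) u) = 0 :=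
        DFunLike.congr_fun h1 u
      exact hx _ h2⟩
  haveI : Nontrivial ↥R := by
    obtain ⟨v, hvU, hv1⟩ : ∃ v ∈ U, v ≠ 1 := by
      by_contra hcon
      push Not at hcon
      exact hUne ((Subgroup.eq_bot_iff_forall _).mpr hcon)
    refine ⟨⟨0, 1, fun h01 => ?_⟩⟩
    have h1 : (0 : AddMonoid.End (Additive ↥U)) = 1 := congrArg Subtype.val h01
    have h2 := DFunLike.congr_fun h1 (Additive.ofMul (⟨v, hvU⟩ : ↥U))
    apply hv1
    have h3 : (1 : ↥U) = ⟨v, hvU⟩ := h2
    exact (congrArg Subtype.val h3).symm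
  haveI : IsDomain ↥R := NoZeroDivisors.to_isDomain _
  let ρ₁ : ↥F →* ↥R :=
    { toFun := fun f => ⟨ρ₀ f, hmemR f⟩
      map_one' := Subtype.ext (map_one ρ₀)
      map_mul' := fun a b => Subtype.ext (map_mul ρ₀ a b) }
  let ρ : ↥F →* (↥R)ˣ := ρ₁.toHomUnits
  haveI hfinr : Finite ↥ρ.range :=
    Finite.of_surjective (fun x : ↥F => (⟨ρ x, x, rfl⟩ : ↥ρ.range))
      (by rintro ⟨_, x, rfl⟩; exact ⟨x, rfl⟩)
  have hcyc : IsCyclic ρ.range := isCyclic_subgroup_units ρ.range
  have hker : ∀ x : ↥F, ρ x = 1 ↔ (x : H) ∈ kerOn F U := by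
    intro x
    constructor
    · intro hx
      refine ⟨x.2, fun u hu => ?_⟩
      have h1 : ρ₁ x = 1 := by
        have := congrArg Units.val hx
        simpa [ρ] using this
      have h2 : ρ₀ x = 1 := congrArg Subtype.val h1
      have h3 := DFunLike.congr_fun h2 (Additive.ofMul (⟨u, hu⟩ : ↥U))
      have h4 : act x ⟨u, hu⟩ = ⟨u, hu⟩ := h3
      exact congrArg Subtype.val h4
    · rintro ⟨_, hx⟩
      apply Units.ext
      have h1 : ρ₁ x = 1 := by
        apply Subtype.ext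
        refine AddMonoidHom.ext fun u => ?_
        show Additive.ofMul (act x (Additive.toMul u)) = u
        have : act x (Additive.toMul u) = Additive.toMul u :=
          Subtype.ext (hx _ (Additive.toMul u).2)
        rw [this]; rfl
      simpa [ρ] using h1
  have hfin := d8_endo_comm ρ hcyc φ ψ (fun x hx => (hker _).mpr (hφ x ((hker x).mp hx)))
    (fun x hx => (hker _).mpr (hψ x ((hker x).mp hx))) f
  exact (hker _).mp (by rw [map_mul, map_inv, hfin, inv_mul_cancel])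

end d8aux

section decomp

variable {H V : Type u} [Group H] [CommGroup V] [MulDistribMulAction A3 H]
  [MulDistribMulAction A3 V] [MulDistribMulAction H V] {p r : ℕ} {F : Subgroup H}

/-- D8: `F/C` is cyclic, in the usable form "automorphisms of `F/C` commute". -/
theorem comp_cyc (cfg : Config H V p r F) (C : Subgroup H) (hC : comp (V := V) F C ≠ ⊥)
    (h : H) (a : A3) (hh : mapH h C = C) (ha : mapA a C = C) :
    ∀ f ∈ F, (h⁻¹ * a • h) * f * (h⁻¹ * a • h)⁻¹ * f⁻¹ ∈ C := by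
  intro f hf
  haveI := cfg.hyp.finH
  have hFn := cfg.Fnormal
  -- a minimal `U` with kernel `C`
  obtain ⟨U, hUmin, hUker⟩ : ∃ U : Subgroup V, IsMinInv F U ∧ kerOn F U = C := by
    by_contra hcon
    push Not at hcon
    apply hC
    unfold comp
    exact iSup_eq_bot.mpr fun U => iSup_eq_bot.mpr fun hU => absurd hU.2 (hcon U hU.1)
  -- the two endomorphisms of `F`
  let φ : ↥F →* ↥F :=
    ((MulAut.conj h).toMonoidHom.comp F.subtype).codRestrict F (fun x => hFn.conj_mem x x.2 h)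
  let ψ : ↥F →* ↥F :=
    ((MulDistribMulAction.toMonoidHom H a).comp F.subtype).codRestrict F (fun x => cfg.FA a x x.2)
  have φ_val : ∀ x : ↥F, ((φ x : ↥F) : H) = h * x * h⁻¹ := fun x => rfl
  have ψ_val : ∀ x : ↥F, ((ψ x : ↥F) : H) = a • (x : H) := fun x => rfl
  have hφ : ∀ x : ↥F, (x : H) ∈ kerOn F U → ((φ x : ↥F) : H) ∈ kerOn F U := by
    intro x hx
    rw [hUker] at hx ⊢
    rw [φ_val, ← hh]
    exact ⟨x, hx, rfl⟩
  have hψ : ∀ x : ↥F, (x : H) ∈ kerOn F U → ((ψ x : ↥F) : H) ∈ kerOn F U := by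
    intro x hx
    rw [hUker] at hx ⊢
    rw [ψ_val, ← ha]
    exact ⟨x, hx, rfl⟩
  have key := d8_comm_mod_ker F cfg.Fcomm U hUmin φ ψ hφ hψ ⟨a⁻¹ • f, cfg.FA a⁻¹ f hf⟩
  rw [hUker] at key
  have e1 : (((φ (ψ ⟨a⁻¹ • f, cfg.FA a⁻¹ f hf⟩))⁻¹ * ψ (φ ⟨a⁻¹ • f, cfg.FA a⁻¹ f hf⟩) : ↥F) : H) =
      (h * f * h⁻¹)⁻¹ * ((a • h) * f * (a • h)⁻¹) := by
    rw [Subgroup.coe_mul, Subgroup.coe_inv, φ_val, ψ_val, ψ_val, φ_val]
    simp only [smul_mul', smul_inv', smul_inv_smul]
  rw [e1] at key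
  -- conjugate back by `h⁻¹`
  have key2 : h⁻¹ * ((h * f * h⁻¹)⁻¹ * ((a • h) * f * (a • h)⁻¹)) * h ∈ C := by
    rw [← hh] at key
    obtain ⟨c, hc, hce⟩ := key
    have : h⁻¹ * ((h * f * h⁻¹)⁻¹ * ((a • h) * f * (a • h)⁻¹)) * h = c := by
      rw [← hce]
      show h⁻¹ * (h * c * h⁻¹) * h = c
      group
    rw [this]; exact hc
  have hkf : (h⁻¹ * a • h) * f * (h⁻¹ * a • h)⁻¹ ∈ F := hFn.conj_mem f hf _
  have e2 : h⁻¹ * ((h * f * h⁻¹)⁻¹ * ((a • h) * f * (a • h)⁻¹)) * h =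
      f⁻¹ * ((h⁻¹ * a • h) * f * (h⁻¹ * a • h)⁻¹) := by group
  rw [e2, cfg.Fcomm _ (F.inv_mem hf) _ hkf] at key2
  exact key2

end decomp

end Cfsg.Agent.Lib.Helper66.S3
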