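import Cfsg.Agent.Lib.Helper66.S3Defs
import Cfsg.Agent.Lib.Helper66.S3.CL
import Cfsg.Agent.Lib.Helper66.S3.D1
import Cfsg.Agent.Lib.Helper66.S3.D4
import Cfsg.Agent.Lib.Helper66.S3.D5
import Cfsg.Agent.Lib.Helper66.S3.D7
import Cfsg.Agent.Lib.Helper66.S3.D8
import Cfsg.Agent.Lib.Helper66.S3.D9
import Cfsg.Agent.Lib.Helper66.S3.SL

/-! # S3-CA (helper41, leaf of helper66's S3 hive for S4305)

Configuration C with all components fixed by `H` and by `σ`: at most two components, contradiction. -/

set_option autoImplicit false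

namespace Cfsg.Agent.Lib.Helper66.S3

universe u

variable {H V : Type u} [Group H] [CommGroup V] [MulDistribMulAction A3 H]
  [MulDistribMulAction A3 V] [MulDistribMulAction H V] {p r : ℕ} {F : Subgroup H}

theorem ca41_A3_cases : ∀ a : A3, a = 1 ∨ a = sig ∨ a = sig * sig ∨ a = tau ∨ a = tau * sig ∨
    a = tau * (sig * sig) := by
  unfold sig tau; decide

theorem ca41_tau_sq : tau * tau = (1 : A3) := by unfold tau; decide

theorem ca41_sig_cube : sig * sig * sig = (1 : A3) := by unfold sig; decide

theorem ca41_sig_tau : sig * tau = tau * (sig * sig) := by unfold sig tau; decide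

theorem ca41_mem_mapA (a : A3) (C : Subgroup H) (x : H) :
    x ∈ mapA a C ↔ ∃ c ∈ C, a • c = x := by
  unfold mapA
  simp only [Subgroup.mem_map, MulDistribMulAction.toMonoidEnd_apply,
    MulDistribMulAction.toMonoidHom_apply]

theorem ca41_mapA_mul (a b : A3) (C : Subgroup H) : mapA (a * b) C = mapA a (mapA b C) := by
  ext x
  simp only [ca41_mem_mapA]
  constructor
  · rintro ⟨c, hc, rfl⟩
    exact ⟨b • c, ⟨c, hc, rfl⟩, by rw [mul_smul]⟩
  · rintro ⟨y, ⟨c, hc, rfl⟩, rfl⟩
    exact ⟨c, hc, by rw [mul_smul]⟩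

theorem ca41_mapA_one (C : Subgroup H) : mapA (1 : A3) C = C := by
  ext x
  simp only [ca41_mem_mapA, one_smul]
  constructor
  · rintro ⟨c, hc, rfl⟩
    exact hc
  · intro hx
    exact ⟨x, hx, rfl⟩

/-- the subgroup of `V` fixed by `c : H`. -/
def ca41_fixV (c : H) : Subgroup V where
  carrier := {v | c • v = v}
  one_mem' := smul_one c
  mul_mem' := by
    intro x y hx hy
    show c • (x * y) = x * y
    rw [smul_mul', hx, hy]
  inv_mem' := by
    intro x hx
    show c • x⁻¹ = x⁻¹
    rw [smul_inv', hx]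

/-- the subgroup of `H` fixed by `σ`. -/
def ca41_Cs (H : Type u) [Group H] [MulDistribMulAction A3 H] : Subgroup H where
  carrier := {x | sig • x = x}
  one_mem' := smul_one sig
  mul_mem' := by
    intro x y hx hy
    show sig • (x * y) = x * y
    rw [smul_mul', hx, hy]
  inv_mem' := by
    intro x hx
    show sig • x⁻¹ = x⁻¹
    rw [smul_inv', hx]

theorem ca41_allfix (x : H) (hs : sig • x = x) (ht : tau • x = x) : ∀ a : A3, a • x = x := by
  intro a
  rcases ca41_A3_cases a with rfl | rfl | rfl | rfl | rfl | rfl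
  · exact one_smul _ x
  · exact hs
  · rw [mul_smul, hs, hs]
  · exact ht
  · rw [mul_smul, hs, ht]
  · rw [mul_smul, mul_smul, hs, hs, ht]

theorem ca41_tau_Cs (x : H) (hx : sig • x = x) : sig • (tau • x) = tau • x := by
  rw [← mul_smul, ca41_sig_tau, mul_smul, mul_smul, hx, hx]

/-- `τ` inverts the fixed points of `σ` (a fixed-point-free involution on a finite group inverts it). -/
theorem ca41_tau_inv [Finite H] (hfpf : ∀ h : H, (∀ a : A3, a • h = h) → h = 1)
    (x : H) (hx : sig • x = x) : tau • x = x⁻¹ := by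
  let φ : ca41_Cs H → ca41_Cs H := fun c => ⟨(c : H)⁻¹ * tau • (c : H), by
    show sig • ((c : H)⁻¹ * tau • (c : H)) = (c : H)⁻¹ * tau • (c : H)
    rw [smul_mul', smul_inv', ca41_tau_Cs _ c.2]
    have : sig • (c : H) = c := c.2
    rw [this]⟩
  have hφinj : Function.Injective φ := by
    intro c d hcd
    have hcd' : (c : H)⁻¹ * tau • (c : H) = (d : H)⁻¹ * tau • (d : H) := congrArg Subtype.val hcd
    have hc2 : sig • (c : H) = c := c.2
    have hd2 : sig • (d : H) = d := d.2
    have he : tau • ((d : H) * (c : H)⁻¹) = (d : H) * (c : H)⁻¹ := by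
      rw [smul_mul', smul_inv']
      have h1 : tau • (c : H) = (c : H) * ((d : H)⁻¹ * tau • (d : H)) := by
        rw [← hcd', mul_inv_cancel_left]
      rw [h1]
      group
    have hes : sig • ((d : H) * (c : H)⁻¹) = (d : H) * (c : H)⁻¹ := by
      rw [smul_mul', smul_inv', hd2, hc2]
    have h1 := hfpf _ (ca41_allfix _ hes he)
    have h2 : (d : H) = c := by rwa [mul_inv_eq_one] at h1
    exact Subtype.ext h2.symm
  have hφsurj := Finite.surjective_of_injective hφinj
  obtain ⟨c, hc⟩ := hφsurj ⟨x, hx⟩
  have hc' : (c : H)⁻¹ * tau • (c : H) = x := congrArg Subtype.val hc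
  rw [← hc', smul_mul', smul_inv', ← mul_smul, ca41_tau_sq, one_smul, mul_inv_rev, inv_inv]

/-- CA: configuration C, all components fixed by `H` and by `σ` (`|Ω| ≤ 2`). -/
theorem configC_allfixed_sig (cfg : Config H V p r F)
    (hself : ∀ h : H, (∀ f ∈ F, h * f = f * h) → h ∈ F)
    (hfix : ∀ (h : H) (C : Subgroup H), comp (V := V) F C ≠ ⊥ → mapH h C = C)
    (hsig : ∀ C : Subgroup H, comp (V := V) F C ≠ ⊥ → mapA sig C = C) : False := by
  classical
  have hyp := cfg.hyp
  have : Finite H := hyp.finH
  have : Finite V := hyp.finV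
  -- some component is nontrivial
  obtain ⟨C, hC0⟩ : ∃ C : Subgroup H, comp (V := V) F C ≠ ⊥ := by
    by_contra hno
    push Not at hno
    have htop : (⊤ : Subgroup V) = ⊥ := by
      rw [← iSup_comp cfg]
      simp only [hno, iSup_bot]
    obtain ⟨x, y, hxy⟩ := cfg.nonab
    have h1 : ∀ h : H, h = 1 := fun h => cfg.faithful h (fun v => by
      have hv : v ∈ (⊤ : Subgroup V) := Subgroup.mem_top v
      rw [htop, Subgroup.mem_bot] at hv
      rw [hv, smul_one])
    exact hxy (by rw [h1 x, h1 y])
  have hsC := hsig C hC0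
  have horb : ∀ C' : Subgroup H, comp (V := V) F C' ≠ ⊥ → ∃ a : A3, C' = mapA a C := by
    intro C' hC'
    obtain ⟨a, h, rfl⟩ := comp_trans cfg C C' hC0 hC'
    exact ⟨a, by rw [hfix h C hC0]⟩
  have hs2C : mapA (sig * sig) C = C := by rw [ca41_mapA_mul, hsC, hsC]
  by_cases htC : mapA tau C = C
  · -- Case 1: a single component
    have hall : ∀ a : A3, mapA a C = C := by
      intro a
      rcases ca41_A3_cases a with rfl | rfl | rfl | rfl | rfl | rfl
      · exact ca41_mapA_one C
      · exact hsC
      · exact hs2C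
      · exact htC
      · rw [ca41_mapA_mul, hsC, htC]
      · rw [ca41_mapA_mul, hs2C, htC]
    have honly : ∀ C' : Subgroup H, comp (V := V) F C' ≠ ⊥ → C' = C := by
      intro C' hC'
      obtain ⟨a, rfl⟩ := horb C' hC'
      exact hall a
    have htop : comp (V := V) F C = ⊤ := by
      rw [← iSup_comp cfg]
      apply le_antisymm
      · exact le_iSup (fun C' : Subgroup H => comp (V := V) F C') C
      · apply iSup_le
        intro C'
        by_cases hC' : comp (V := V) F C' = ⊥
        · rw [hC']; exact bot_le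
        · rw [honly C' hC']
    have hCbot : ∀ c ∈ C, c = 1 := by
      intro c hc
      apply cfg.faithful c
      intro v
      exact comp_triv C c hc v (by rw [htop]; exact Subgroup.mem_top v)
    have hgF : ∀ (h : H) (a : A3), h⁻¹ * a • h ∈ F := by
      intro h a
      apply hself
      intro f hf
      have h0 := comp_cyc cfg C hC0 h a (hfix h C hC0) (hall a) f hf
      have h1 := hCbot _ h0
      have h2 : (h⁻¹ * a • h) * f * (h⁻¹ * a • h)⁻¹ = f := by
        rw [← mul_inv_eq_one]; exact h1
      rw [mul_inv_eq_iff_eq_mul] at h2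
      exact h2
    have hFtop : F = ⊤ := by
      rw [eq_top_iff]
      intro h _
      have hcopF : (Nat.card F).Coprime (Nat.card A3) := by
        have h6 : Nat.card A3 = 6 := by
          rw [Nat.card_eq_fintype_card, Fintype.card_perm]; rfl
        rw [h6]
        exact Nat.Coprime.coprime_dvd_left (Subgroup.card_subgroup_dvd_card F) hyp.copH
      obtain ⟨n, hn, hfixn⟩ :=
        coprime_lift (B := A3) F cfg.Fcomm hcopF cfg.FA h (fun b => hgF h b)
      have h1 : h * n = 1 := hyp.fpfH (h * n) hfixn
      have h2 : h = n⁻¹ := eq_inv_of_mul_eq_one_left h1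
      rw [h2]; exact F.inv_mem hn
    exact cfg.Fne hFtop
  · -- Case 2: two components, swapped by `τ`
    obtain ⟨C₂, hC₂⟩ : ∃ X : Subgroup H, X = mapA tau C := ⟨_, rfl⟩
    have hC₂0 : comp (V := V) F C₂ ≠ ⊥ := by
      intro hbot
      obtain ⟨v, hv, hv1⟩ : ∃ v ∈ comp (V := V) F C, v ≠ 1 := by
        by_contra hno
        push Not at hno
        exact hC0 ((Subgroup.eq_bot_iff_forall _).mpr hno)
      have h1 := comp_smulA cfg C tau v hv
      rw [← hC₂, hbot, Subgroup.mem_bot] at h1
      apply hv1
      have h2 : tau⁻¹ • (tau • v) = tau⁻¹ • (1 : V) := by rw [h1]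
      rwa [inv_smul_smul, smul_one] at h2
    have hsC₂ := hsig C₂ hC₂0
    have hs2C₂ : mapA (sig * sig) C₂ = C₂ := by rw [ca41_mapA_mul, hsC₂, hsC₂]
    have htC₂ : mapA tau C₂ = C := by
      rw [hC₂, ← ca41_mapA_mul, ca41_tau_sq, ca41_mapA_one]
    have hne₂ : mapA tau C₂ ≠ C₂ := by
      rw [htC₂, hC₂]; exact fun h => htC h.symm
    have hstab : ∀ b : A3, mapA b C = C → b = 1 ∨ b = sig ∨ b = sig * sig := by
      intro b hb
      rcases ca41_A3_cases b with rfl | rfl | rfl | rfl | rfl | rfl
      · left; rfl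
      · right; left; rfl
      · right; right; rfl
      · exact absurd hb htC
      · exfalso; rw [ca41_mapA_mul, hsC] at hb; exact htC hb
      · exfalso; rw [ca41_mapA_mul, hs2C] at hb; exact htC hb
    have hstab₂ : ∀ b : A3, mapA b C₂ = C₂ → b = 1 ∨ b = sig ∨ b = sig * sig := by
      intro b hb
      rcases ca41_A3_cases b with rfl | rfl | rfl | rfl | rfl | rfl
      · left; rfl
      · right; left; rfl
      · right; right; rfl
      · exact absurd hb hne₂
      · exfalso; rw [ca41_mapA_mul, hsC₂] at hb; exact hne₂ hb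
      · exfalso; rw [ca41_mapA_mul, hs2C₂] at hb; exact hne₂ hb
    have honly : ∀ C' : Subgroup H, comp (V := V) F C' ≠ ⊥ → C' = C ∨ C' = C₂ := by
      intro C' hC'
      obtain ⟨a, rfl⟩ := horb C' hC'
      rcases ca41_A3_cases a with rfl | rfl | rfl | rfl | rfl | rfl
      · left; exact ca41_mapA_one C
      · left; exact hsC
      · left; exact hs2C
      · right; exact hC₂.symm
      · right; rw [ca41_mapA_mul, hsC, hC₂]
      · right; rw [ca41_mapA_mul, hs2C, hC₂]
    have htop : comp (V := V) F C ⊔ comp (V := V) F C₂ = ⊤ := by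
      rw [← iSup_comp cfg]
      apply le_antisymm
      · exact sup_le (le_iSup (fun C' : Subgroup H => comp (V := V) F C') C)
          (le_iSup (fun C' : Subgroup H => comp (V := V) F C') C₂)
      · apply iSup_le
        intro C'
        by_cases hC' : comp (V := V) F C' = ⊥
        · rw [hC']; exact bot_le
        · rcases honly C' hC' with h | h
          · rw [h]; exact le_sup_left
          · rw [h]; exact le_sup_right
    have hinf : ∀ c : H, c ∈ C → c ∈ C₂ → c = 1 := by
      intro c hc hc₂
      apply cfg.faithful c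
      intro v
      have hle : comp (V := V) F C ⊔ comp (V := V) F C₂ ≤ ca41_fixV (V := V) c := by
        apply sup_le
        · intro w hw; exact comp_triv C c hc w hw
        · intro w hw; exact comp_triv C₂ c hc₂ w hw
      have hv : v ∈ ca41_fixV (V := V) c := hle (by rw [htop]; exact Subgroup.mem_top v)
      exact hv
    have hW : ∀ v ∈ comp (V := V) F C, sig • v = v → v = 1 := by
      obtain ⟨a, _, _, hfixv⟩ := comp_stab cfg C hC0
      intro v hv hsv
      apply hfixv v hv
      intro b hb
      rcases hstab b hb with rfl | rfl | rfl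
      · exact one_smul _ v
      · exact hsv
      · rw [mul_smul, hsv, hsv]
    have hW₂ : ∀ v ∈ comp (V := V) F C₂, sig • v = v → v = 1 := by
      obtain ⟨a, _, _, hfixv⟩ := comp_stab cfg C₂ hC₂0
      intro v hv hsv
      apply hfixv v hv
      intro b hb
      rcases hstab₂ b hb with rfl | rfl | rfl
      · exact one_smul _ v
      · exact hsv
      · rw [mul_smul, hsv, hsv]
    have hsF : ∀ f ∈ F, sig • f = f := by
      intro f hf
      have h1 := lemSL cfg C hC0 hsC hW f hf
      have h2 := lemSL cfg C₂ hC₂0 hsC₂ hW₂ f hf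
      have h3 := hinf _ h1 h2
      exact (inv_mul_eq_one.mp h3).symm
    have hinv : ∀ x : H, sig • x = x → tau • x = x⁻¹ := ca41_tau_inv hyp.fpfH
    have hCsF : ∀ x : H, sig • x = x → x ∈ F := by
      intro x hx
      apply hself
      intro f hf
      have hfx := hsF f hf
      have h1 : tau • (x * f) = (x * f)⁻¹ := hinv _ (by rw [smul_mul', hx, hfx])
      rw [smul_mul', hinv x hx, hinv f hfx, mul_inv_rev] at h1
      have h2 := congrArg (fun z => z⁻¹) h1
      simp only [mul_inv_rev, inv_inv] at h2
      exact h2.symm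
    have hgF : ∀ h : H, h⁻¹ * sig • h ∈ F := by
      intro h
      apply hself
      intro f hf
      have h1 := comp_cyc cfg C hC0 h sig (hfix h C hC0) hsC f hf
      have h2 := comp_cyc cfg C₂ hC₂0 h sig (hfix h C₂ hC₂0) hsC₂ f hf
      have h3 := hinf _ h1 h2
      have h4 : (h⁻¹ * sig • h) * f * (h⁻¹ * sig • h)⁻¹ = f := by
        rw [← mul_inv_eq_one]; exact h3
      rw [mul_inv_eq_iff_eq_mul] at h4
      exact h4
    have hFtop : F = ⊤ := by
      rw [eq_top_iff]
      intro h _
      apply hCsF
      obtain ⟨g, hg⟩ : ∃ g : H, g = h⁻¹ * sig • h := ⟨_, rfl⟩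
      have hgF' : g ∈ F := hg ▸ hgF h
      have hsg : sig • g = g := hsF g hgF'
      have hsh : sig • h = h * g := by rw [hg, mul_inv_cancel_left]
      have h3 : h * 1 = h * (g * g * g) := by
        have h4 : (sig * sig * sig) • h = h * (g * g * g) := by
          rw [mul_smul, mul_smul, hsh, smul_mul', hsg, hsh, smul_mul', smul_mul', hsg, hsh]
          group
        rw [ca41_sig_cube, one_smul] at h4
        rw [mul_one]; exact h4
      have hg3 : g ^ 3 = 1 := by
        have h5 : g * g * g = 1 := (mul_left_cancel h3).symm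
        rw [pow_succ, pow_two]; exact h5
      have hgH : g ^ Nat.card H = 1 := pow_card_eq_one'
      have hcop3 : Nat.gcd 3 (Nat.card H) = 1 :=
        (Nat.Coprime.coprime_dvd_right (by norm_num : 3 ∣ 6) hyp.copH).symm
      have h6 : g ^ Nat.gcd 3 (Nat.card H) = 1 := pow_gcd_eq_one.mpr ⟨hg3, hgH⟩
      rw [hcop3, pow_one] at h6
      rw [hsh, h6, mul_one]
    exact cfg.Fne hFtop

end Cfsg.Agent.Lib.Helper66.S3
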