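import Cfsg.Agent.Lib.Helper66.S3Defs

/-! # S3 hive (S4305), leaf I1 `step` : if `G'` centralizes the normal subgroup `V` and `(G/V)'` is
nilpotent, then `G'` is nilpotent. -/

set_option autoImplicit false

namespace Cfsg.Agent.Lib.Helper66.S3

universe u

section top

variable {G : Type u} [Group G] [Finite G] [MulDistribMulAction A3 G]

/-- I1 (pure group theory). -/
theorem step (V : Subgroup G) [V.Normal] (hcent : ∀ x ∈ commutator G, ∀ v ∈ V, x * v = v * x)
    (hquot : Group.IsNilpotent ↥(commutator (G ⧸ V))) : Group.IsNilpotent ↥(commutator G) := by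
  have hmap : ∀ x ∈ commutator G, QuotientGroup.mk' V x ∈ commutator (G ⧸ V) := by
    intro x hx
    have hle : (commutator G).map (QuotientGroup.mk' V) ≤ commutator (G ⧸ V) := by
      rw [commutator_def, Subgroup.map_commutator, commutator_def]
      exact Subgroup.commutator_mono le_top le_top
    exact hle (Subgroup.mem_map_of_mem _ hx)
  let f : ↥(commutator G) →* ↥(commutator (G ⧸ V)) :=
    ((QuotientGroup.mk' V).comp (commutator G).subtype).codRestrict (commutator (G ⧸ V))
      (fun x => hmap x x.2)
  have := hquot
  refine Subgroup.isNilpotent_of_ker_le_center f ?_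
  intro x hx
  rw [MonoidHom.mem_ker] at hx
  have hxV : (x : G) ∈ V := by
    have h1 := congrArg Subtype.val hx
    have h2 : QuotientGroup.mk' V (x : G) = 1 := h1
    exact (QuotientGroup.eq_one_iff _).mp h2
  rw [Subgroup.mem_center_iff]
  intro y
  apply Subtype.ext
  rw [Subgroup.coe_mul, Subgroup.coe_mul]
  exact hcent y y.2 x hxV

end top

end Cfsg.Agent.Lib.Helper66.S3
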