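import Cfsg.Agent.Lib.Helper66.S3Defs
import Cfsg.Agent.Lib.Helper66.S3.CL

/-!
# S3 hive (S4305), leaf I2 `quot_action` (helper95)

The quotient of `G` by an abelian `A3`-invariant normal subgroup `V` inherits an `A3`-action, and
(by coprime lifting, leaf CL) this action is again fixed-point-free.
-/

set_option autoImplicit false

namespace Cfsg.Agent.Lib.Helper66.S3

universe u

section top

variable {G : Type u} [Group G] [Finite G] [MulDistribMulAction A3 G]

/-- The endomorphism of `G ⧸ V` induced by `a : A3`. -/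
def s3I2_qmap (V : Subgroup G) [V.Normal] (hVA : ∀ a : A3, ∀ v ∈ V, a • v ∈ V) (a : A3) :
    G ⧸ V →* G ⧸ V :=
  QuotientGroup.map V V (MulDistribMulAction.toMonoidHom G a) (fun v hv => hVA a v hv)

omit [Finite G] in
theorem s3I2_qmap_coe (V : Subgroup G) [V.Normal] (hVA : ∀ a : A3, ∀ v ∈ V, a • v ∈ V)
    (a : A3) (g : G) : s3I2_qmap V hVA a (g : G ⧸ V) = ((a • g : G) : G ⧸ V) := rfl

/-- The action induced on `G ⧸ V` by an action on `G` leaving the normal subgroup `V` invariant. -/
@[reducible] def s3I2_quotInst (V : Subgroup G) [V.Normal]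
    (hVA : ∀ a : A3, ∀ v ∈ V, a • v ∈ V) : MulDistribMulAction A3 (G ⧸ V) where
  smul a q := s3I2_qmap V hVA a q
  one_smul q := by
    induction q using QuotientGroup.induction_on with
    | H g =>
      show s3I2_qmap V hVA 1 (g : G ⧸ V) = _
      rw [s3I2_qmap_coe, one_smul]
  mul_smul a b q := by
    induction q using QuotientGroup.induction_on with
    | H g =>
      show s3I2_qmap V hVA (a * b) (g : G ⧸ V) =
        s3I2_qmap V hVA a (s3I2_qmap V hVA b (g : G ⧸ V))
      rw [s3I2_qmap_coe, s3I2_qmap_coe, s3I2_qmap_coe, mul_smul]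
  smul_mul a q q' := map_mul (s3I2_qmap V hVA a) q q'
  smul_one a := map_one (s3I2_qmap V hVA a)

omit [Finite G] in
theorem s3I2_smul_coe (V : Subgroup G) [V.Normal] (hVA : ∀ a : A3, ∀ v ∈ V, a • v ∈ V)
    (a : A3) (g : G) :
    letI := s3I2_quotInst V hVA
    a • (g : G ⧸ V) = ((a • g : G) : G ⧸ V) := rfl

theorem s3I2_card_A3 : Nat.card A3 = 6 := by
  rw [Nat.card_eq_fintype_card, Fintype.card_perm, Fintype.card_fin]
  rfl

/-- I2: the quotient by an abelian invariant normal subgroup inherits a fixed-point-free action. -/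
theorem quot_action (hcop : (Nat.card G).Coprime 6)
    (hfpf : ∀ g : G, (∀ a : A3, a • g = g) → g = 1) (V : Subgroup G) [V.Normal]
    (hVA : ∀ a : A3, ∀ v ∈ V, a • v ∈ V) (hVcomm : ∀ x ∈ V, ∀ y ∈ V, x * y = y * x) :
    ∃ _inst : MulDistribMulAction A3 (G ⧸ V), ∀ q : G ⧸ V, (∀ a : A3, a • q = q) → q = 1 := by
  refine ⟨s3I2_quotInst V hVA, ?_⟩
  intro q hq
  induction q using QuotientGroup.induction_on with
  | H g =>
    have hg : ∀ b : A3, g⁻¹ * b • g ∈ V := by
      intro b
      have h1 := hq b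
      rw [s3I2_smul_coe V hVA b g] at h1
      exact QuotientGroup.eq.mp h1.symm
    have hcopV : (Nat.card V).Coprime (Nat.card A3) := by
      rw [s3I2_card_A3]
      exact Nat.Coprime.coprime_dvd_left (Subgroup.card_subgroup_dvd_card V) hcop
    obtain ⟨n, hn, hfix⟩ := coprime_lift V hVcomm hcopV hVA g hg
    have h1 : g * n = 1 := hfpf (g * n) hfix
    have hgV : g ∈ V := by
      have : g = n⁻¹ := eq_inv_of_mul_eq_one_left h1
      rw [this]
      exact V.inv_mem hn
    exact (QuotientGroup.eq_one_iff g).mpr hgV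

end top

end Cfsg.Agent.Lib.Helper66.S3
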