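import Cfsg.Agent.Lib.Helper66.S3Defs

set_option autoImplicit false

namespace Cfsg.Agent.Lib.Helper66.S3

universe u

section top

variable {G : Type u} [Group G] [Finite G] [MulDistribMulAction A3 G]

/-- I3: a minimal nontrivial `A3`-invariant normal subgroup exists. -/
theorem min_exists (hG : Nontrivial G) :
    ∃ V : Subgroup G, V.Normal ∧ (∀ a : A3, ∀ v ∈ V, a • v ∈ V) ∧ V ≠ ⊥ ∧
      ∀ W : Subgroup G, W.Normal → (∀ a : A3, ∀ w ∈ W, a • w ∈ W) → W ≤ V → W = ⊥ ∨ W = V := by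
  classical
  let S : Set (Subgroup G) :=
    {V | V.Normal ∧ (∀ a : A3, ∀ v ∈ V, a • v ∈ V) ∧ V ≠ ⊥}
  have hSne : S.Nonempty := by
    refine ⟨⊤, inferInstance, fun _ _ _ => Subgroup.mem_top _, ?_⟩
    intro h
    have : Subsingleton G := by
      rw [← Subgroup.subsingleton_iff]
      refine ⟨fun a b => ?_⟩
      have ha : a = ⊥ := le_antisymm (h ▸ le_top) bot_le
      have hb : b = ⊥ := le_antisymm (h ▸ le_top) bot_le
      rw [ha, hb]
    exact not_nontrivial_iff_subsingleton.mpr this hG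
  have hwf : WellFounded ((· < ·) : Subgroup G → Subgroup G → Prop) :=
    (inferInstance : WellFoundedLT (Subgroup G)).wf
  obtain ⟨V, hVS, hVmin⟩ := hwf.has_min S hSne
  obtain ⟨hVn, hVA, hVne⟩ := hVS
  refine ⟨V, hVn, hVA, hVne, ?_⟩
  intro W hWn hWA hWV
  by_cases hW : W = ⊥
  · exact Or.inl hW
  · right
    have hWS : W ∈ S := ⟨hWn, hWA, hW⟩
    have hnlt : ¬ W < V := hVmin W hWS
    rcases lt_or_eq_of_le hWV with h | h
    · exact absurd h hnlt
    · exact h

end top

end Cfsg.Agent.Lib.Helper66.S3
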