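import Cfsg.Agent.Lib.Helper66.S3Defs

/-!
# S3 hive (S4305), leaf I4 `min_abelian` (helper55)

A minimal `A3`-invariant normal subgroup of a finite solvable group is abelian.
-/

set_option autoImplicit false

namespace Cfsg.Agent.Lib.Helper66.S3

universe u

open scoped commutatorElement

section top

variable {G : Type u} [Group G] [Finite G] [MulDistribMulAction A3 G]

/-- The commutator subgroup of an `A3`-invariant subgroup is `A3`-invariant. -/
theorem s3I4_comm_inv (V : Subgroup G) (hVA : ∀ a : A3, ∀ v ∈ V, a • v ∈ V) :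
    ∀ a : A3, ∀ w ∈ ⁅V, V⁆, a • w ∈ ⁅V, V⁆ := by
  intro a w hw
  rw [Subgroup.commutator_def] at hw
  induction hw using Subgroup.closure_induction with
  | mem x hx =>
    obtain ⟨g₁, hg₁, g₂, hg₂, rfl⟩ := hx
    have : a • (⁅g₁, g₂⁆ : G) = ⁅a • g₁, a • g₂⁆ := by
      simp only [commutatorElement_def, smul_mul', smul_inv']
    rw [this]
    exact Subgroup.commutator_mem_commutator (hVA a g₁ hg₁) (hVA a g₂ hg₂)
  | one => rw [smul_one]; exact Subgroup.one_mem _
  | mul x y _ _ hx hy => rw [smul_mul']; exact Subgroup.mul_mem _ hx hy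
  | inv x _ hx => rw [smul_inv']; exact Subgroup.inv_mem _ hx

/-- A perfect subgroup of a solvable group is trivial. -/
theorem s3I4_perfect_bot [Group.IsSolvable G] (V : Subgroup G) (hp : ⁅V, V⁆ = V) : V = ⊥ := by
  obtain ⟨n, hn⟩ := (Group.isSolvable_def G).mp inferInstance
  have hle : ∀ k : ℕ, V ≤ derivedSeries G k := by
    intro k
    induction k with
    | zero => simp
    | succ k ih =>
      rw [derivedSeries_succ]
      calc V = ⁅V, V⁆ := hp.symm
        _ ≤ ⁅derivedSeries G k, derivedSeries G k⁆ := Subgroup.commutator_mono ih ih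
  exact le_bot_iff.mp (hn ▸ hle n)

/-- I4: it is abelian when `G` is solvable. -/
theorem min_abelian [Group.IsSolvable G] (V : Subgroup G) (hV : V.Normal)
    (hVA : ∀ a : A3, ∀ v ∈ V, a • v ∈ V)
    (hmin : ∀ W : Subgroup G, W.Normal → (∀ a : A3, ∀ w ∈ W, a • w ∈ W) → W ≤ V →
      W = ⊥ ∨ W = V) : ∀ x ∈ V, ∀ y ∈ V, x * y = y * x := by
  have hWn : (⁅V, V⁆ : Subgroup G).Normal := Subgroup.commutator_normal V V
  have hWle : ⁅V, V⁆ ≤ V := Subgroup.commutator_le_right V V
  have hbot : ⁅V, V⁆ = ⊥ := by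
    rcases hmin ⁅V, V⁆ hWn (s3I4_comm_inv V hVA) hWle with h | h
    · exact h
    · have hVb : V = ⊥ := s3I4_perfect_bot V h
      rw [hVb]
      exact le_bot_iff.mp (hVb ▸ hWle)
  intro x hx y hy
  have hc : (⁅x, y⁆ : G) ∈ (⊥ : Subgroup G) := hbot ▸ Subgroup.commutator_mem_commutator hx hy
  rw [Subgroup.mem_bot] at hc
  exact (commutatorElement_eq_one_iff_mul_comm).mp hc

end top

end Cfsg.Agent.Lib.Helper66.S3
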