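import Cfsg.Agent.Lib.Helper66.S3Defs

/-!
# S3 hive (S4305, owner helper66): leaf I5 (helper24)

`KP_conj_core`: the key proposition (taken as the explicit hypothesis `hKP`, which is literally the
statement of `KP_all` of the skeleton) applied to `G` acting by conjugation on a minimal normal
`A3`-invariant abelian subgroup `V`.  The assembly is `KP_conj := KP_conj_core KP_all`.
-/

set_option autoImplicit false

namespace Cfsg.Agent.Lib.Helper66.S3

universe u

section top

variable {G : Type u} [Group G] [Finite G] [MulDistribMulAction A3 G]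

/-- I5 (core): the key proposition applied to `G` acting by conjugation on `V`. -/
theorem KP_conj_core
    (hKP : ∀ (n : ℕ) (H V : Type u) [Group H] [CommGroup V] [MulDistribMulAction A3 H]
      [MulDistribMulAction A3 V] [MulDistribMulAction H V], Nat.card H = n → KPHyp H V →
      KPConcl H V)
    [Group.IsSolvable G] (hcop : (Nat.card G).Coprime 6)
    (hfpf : ∀ g : G, (∀ a : A3, a • g = g) → g = 1) (V : Subgroup G) (hV : V.Normal)
    (hVA : ∀ a : A3, ∀ v ∈ V, a • v ∈ V) (hne : V ≠ ⊥)
    (hmin : ∀ W : Subgroup G, W.Normal → (∀ a : A3, ∀ w ∈ W, a • w ∈ W) → W ≤ V →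
      W = ⊥ ∨ W = V) (hVcomm : ∀ x ∈ V, ∀ y ∈ V, x * y = y * x) :
    ∀ x ∈ commutator G, ∀ v ∈ V, x * v = v * x := by
  -- the three structures on `↥V`
  let instCG : CommGroup ↥V :=
    { (inferInstance : Group ↥V) with
      mul_comm := fun x y => Subtype.ext (hVcomm x.1 x.2 y.1 y.2) }
  let instAV : MulDistribMulAction A3 ↥V :=
    { smul := fun a v => ⟨a • v.1, hVA a v.1 v.2⟩
      one_smul := fun v => Subtype.ext (one_smul A3 v.1)
      mul_smul := fun a b v => Subtype.ext (mul_smul a b v.1)
      smul_mul := fun a v w => Subtype.ext (smul_mul' a v.1 w.1)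
      smul_one := fun a => Subtype.ext (smul_one a) }
  let instGV : MulDistribMulAction G ↥V :=
    { smul := fun g v => ⟨g * v.1 * g⁻¹, hV.conj_mem v.1 v.2 g⟩
      one_smul := fun v => Subtype.ext (by
        show (1 : G) * v.1 * (1 : G)⁻¹ = v.1
        simp)
      mul_smul := fun g h v => Subtype.ext (by
        show (g * h) * v.1 * (g * h)⁻¹ = g * (h * v.1 * h⁻¹) * g⁻¹
        simp [mul_assoc])
      smul_mul := fun g v w => Subtype.ext (by
        show g * (v.1 * w.1) * g⁻¹ = (g * v.1 * g⁻¹) * (g * w.1 * g⁻¹)
        simp [mul_assoc])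
      smul_one := fun g => Subtype.ext (by
        show g * (1 : G) * g⁻¹ = 1
        simp) }
  have hAV : ∀ (a : A3) (v : ↥V), ((a • v : ↥V) : G) = a • (v : G) := fun _ _ => rfl
  have hGV : ∀ (g : G) (v : ↥V), ((g • v : ↥V) : G) = g * (v : G) * g⁻¹ := fun _ _ => rfl
  have hyp : KPHyp G ↥V := by
    refine
      { finH := inferInstance
        finV := inferInstance
        solv := inferInstance
        compat := ?_
        copH := hcop
        copV := Nat.Coprime.coprime_dvd_left (Subgroup.card_subgroup_dvd_card V) hcop
        fpfH := hfpf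
        fpfV := ?_
        irr := ?_ }
    · intro a h v
      apply Subtype.ext
      rw [hAV, hGV, hGV, hAV, smul_mul', smul_mul', smul_inv']
    · intro v hv
      apply Subtype.ext
      apply hfpf
      intro a
      have := congrArg Subtype.val (hv a)
      rwa [hAV] at this
    · intro U hUH hUA
      have hWn : (U.map V.subtype).Normal := by
        constructor
        rintro _ ⟨u, hu, rfl⟩ g
        exact ⟨g • u, hUH g u hu, rfl⟩
      have hWA : ∀ a : A3, ∀ w ∈ U.map V.subtype, a • w ∈ U.map V.subtype := by
        rintro a _ ⟨u, hu, rfl⟩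
        exact ⟨a • u, hUA a u hu, rfl⟩
      have hWV : U.map V.subtype ≤ V := by
        rintro _ ⟨u, -, rfl⟩
        exact u.2
      rcases hmin _ hWn hWA hWV with h | h
      · left
        rw [Subgroup.eq_bot_iff_forall]
        intro u hu
        have : (V.subtype u) ∈ U.map V.subtype := ⟨u, hu, rfl⟩
        rw [h, Subgroup.mem_bot] at this
        exact Subtype.ext this
      · right
        rw [Subgroup.eq_top_iff']
        intro v
        have : (v : G) ∈ U.map V.subtype := by rw [h]; exact v.2
        obtain ⟨u, hu, huv⟩ := this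
        have : u = v := Subtype.ext huv
        rwa [this] at hu
  have hconcl : KPConcl G ↥V := hKP (Nat.card G) G ↥V rfl hyp
  intro x hx v hv
  have h1 := hconcl x hx ⟨v, hv⟩
  have h2 := congrArg Subtype.val h1
  rw [hGV] at h2
  simp only at h2
  calc x * v = x * v * x⁻¹ * x := by group
    _ = v * x := by rw [h2]

end top

end Cfsg.Agent.Lib.Helper66.S3
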