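import Cfsg.Agent.Lib.Helper66.S3.I5

/-!
# S3 hive (S4305, owner helper66): leaf I5 in the shape asked for in the clarification (helper24)

`KP_conj_of`: `KP_conj` with the key proposition as an explicit first hypothesis `kp`
(derived from `KP_conj_core` of `S3/I5.lean`).
-/

set_option autoImplicit false

namespace Cfsg.Agent.Lib.Helper66.S3

universe u

theorem KP_conj_of {G : Type u} [Group G] [Finite G] [MulDistribMulAction A3 G]
    (kp : ∀ (H V : Type u) [Group H] [CommGroup V] [MulDistribMulAction A3 H]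
      [MulDistribMulAction A3 V] [MulDistribMulAction H V], KPHyp H V → KPConcl H V)
    [Group.IsSolvable G] (hcop : (Nat.card G).Coprime 6)
    (hfpf : ∀ g : G, (∀ a : A3, a • g = g) → g = 1) (V : Subgroup G) (hV : V.Normal)
    (hVA : ∀ a : A3, ∀ v ∈ V, a • v ∈ V) (hne : V ≠ ⊥)
    (hmin : ∀ W : Subgroup G, W.Normal → (∀ a : A3, ∀ w ∈ W, a • w ∈ W) → W ≤ V →
      W = ⊥ ∨ W = V) (hVcomm : ∀ x ∈ V, ∀ y ∈ V, x * y = y * x) :
    ∀ x ∈ commutator G, ∀ v ∈ V, x * v = v * x :=
  KP_conj_core (fun _ H V _ _ _ _ _ _ hyp => kp H V hyp) hcop hfpf V hV hVA hne hmin hVcomm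

end Cfsg.Agent.Lib.Helper66.S3
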