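import Cfsg.Agent.Lib.Helper66.S3Defs
import Cfsg.Agent.Lib.Helper66.S3.CLS

/-!
# S3 hive (S4305), leaf K0 `KP_nonfaithful` (helper49)

The non-faithful case of the key proposition: pass to `H ⧸ K`, `K` the kernel of `H` on `V`, and use
the induction hypothesis.  `k0_core` takes the coprime-lifting lemma CLS as a hypothesis.
-/

set_option autoImplicit false

namespace Cfsg.Agent.Lib.Helper66.S3

universe u

section decomp

variable {H V : Type u} [Group H] [CommGroup V] [MulDistribMulAction A3 H]
  [MulDistribMulAction A3 V] [MulDistribMulAction H V]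

/-- The kernel of the action of `H` on `V`. -/
def s3k0_K (H V : Type u) [Group H] [CommGroup V] [MulDistribMulAction H V] : Subgroup H :=
  (MulDistribMulAction.toMulAut H V).ker

omit [MulDistribMulAction A3 H] [MulDistribMulAction A3 V] in
theorem s3k0_mem_K (h : H) : h ∈ s3k0_K H V ↔ ∀ v : V, h • v = v := by
  unfold s3k0_K
  rw [MonoidHom.mem_ker]
  constructor
  · intro hh v
    have := DFunLike.congr_fun hh v
    simpa using this
  · intro hh
    ext v
    simpa using hh v

instance s3k0_K_normal : (s3k0_K H V).Normal := by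
  unfold s3k0_K
  infer_instance

theorem s3k0_K_inv (compat : ∀ (a : A3) (h : H) (v : V), a • (h • v) = (a • h) • (a • v))
    (a : A3) (h : H) (hh : h ∈ s3k0_K H V) : a • h ∈ s3k0_K H V := by
  rw [s3k0_mem_K] at hh ⊢
  intro v
  have := compat a h (a⁻¹ • v)
  rw [hh (a⁻¹ • v), smul_inv_smul] at this
  exact this.symm

/-- The induced action of `A3` on `H ⧸ K`. -/
@[reducible] def s3k0_quotA (hK : ∀ a : A3, ∀ h ∈ s3k0_K H V, a • h ∈ s3k0_K H V) :
    MulDistribMulAction A3 (H ⧸ s3k0_K H V) where
  smul a q := QuotientGroup.map (s3k0_K H V) (s3k0_K H V) (MulDistribMulAction.toMonoidHom H a)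
    (fun h hh => hK a h hh) q
  one_smul q := by
    induction q using QuotientGroup.induction_on with
    | H h =>
      show (((1 : A3) • h : H) : H ⧸ s3k0_K H V) = h
      rw [one_smul]
  mul_smul a b q := by
    induction q using QuotientGroup.induction_on with
    | H h =>
      show (((a * b) • h : H) : H ⧸ s3k0_K H V) = ((a • (b • h) : H) : H ⧸ s3k0_K H V)
      rw [mul_smul]
  smul_mul a q q' := by
    show QuotientGroup.map _ _ _ _ (q * q') =
      QuotientGroup.map _ _ _ _ q * QuotientGroup.map _ _ _ _ q'
    rw [map_mul]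
  smul_one a := by
    show QuotientGroup.map _ _ _ _ (1 : H ⧸ s3k0_K H V) = 1
    rw [map_one]

/-- The induced action of `H ⧸ K` on `V`. -/
@[reducible] def s3k0_quotV : MulDistribMulAction (H ⧸ s3k0_K H V) V :=
  MulDistribMulAction.compHom V
    (QuotientGroup.lift (s3k0_K H V) (MulDistribMulAction.toMulAut H V) (fun _ hh => hh))

/-- K0 with the coprime-lifting lemma CLS as a hypothesis. -/
theorem k0_core
    (cls : ∀ (N : Subgroup H) [N.Normal], Group.IsSolvable N →
      (Nat.card N).Coprime (Nat.card A3) → (∀ b : A3, ∀ n ∈ N, b • n ∈ N) →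
      ∀ g : H, (∀ b : A3, g⁻¹ * b • g ∈ N) → ∃ n ∈ N, ∀ b : A3, b • (g * n) = g * n)
    (hyp : KPHyp H V) (hnf : ¬ Faithful H V) (ih : IHyp H) : KPConcl H V := by
  have hfinH := hyp.finH
  have hfinV := hyp.finV
  have hsolvH := hyp.solv
  have hKinv : ∀ a : A3, ∀ h ∈ s3k0_K H V, a • h ∈ s3k0_K H V :=
    fun a h hh => s3k0_K_inv hyp.compat a h hh
  let iA : MulDistribMulAction A3 (H ⧸ s3k0_K H V) := s3k0_quotA hKinv
  let iV : MulDistribMulAction (H ⧸ s3k0_K H V) V := s3k0_quotV
  have hsmulA : ∀ (a : A3) (h : H),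
      a • (h : H ⧸ s3k0_K H V) = ((a • h : H) : H ⧸ s3k0_K H V) := fun a h => rfl
  have hsmulV : ∀ (h : H) (v : V), (h : H ⧸ s3k0_K H V) • v = h • v := fun h v => rfl
  have hcardA : Nat.card A3 = 6 := by
    rw [Nat.card_eq_fintype_card, Fintype.card_perm, Fintype.card_fin]
    rfl
  -- the kernel is nontrivial
  have hKne : s3k0_K H V ≠ ⊥ := by
    intro hbot
    apply hnf
    intro h hh
    have : h ∈ s3k0_K H V := (s3k0_mem_K h).2 hh
    rw [hbot, Subgroup.mem_bot] at this
    exact this
  have hlt : Nat.card (H ⧸ s3k0_K H V) < Nat.card H := by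
    have h1 : 1 < Nat.card (s3k0_K H V) := (Subgroup.one_lt_card_iff_ne_bot _).2 hKne
    have h2 := Subgroup.card_eq_card_quotient_mul_card_subgroup (s3k0_K H V)
    have h3 : 0 < Nat.card (H ⧸ s3k0_K H V) := Nat.card_pos
    rw [h2]
    nlinarith
  have hyp' : KPHyp (H ⧸ s3k0_K H V) V :=
    { finH := inferInstance
      finV := hfinV
      solv := inferInstance
      compat := by
        intro a q v
        induction q using QuotientGroup.induction_on with
        | H h =>
          rw [hsmulA, hsmulV, hsmulV]
          exact hyp.compat a h v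
      copH := Nat.Coprime.coprime_dvd_left (Subgroup.card_quotient_dvd_card _) hyp.copH
      copV := hyp.copV
      fpfH := by
        intro q hq
        induction q using QuotientGroup.induction_on with
        | H h =>
          have hg : ∀ b : A3, h⁻¹ * b • h ∈ s3k0_K H V := by
            intro b
            have := hq b
            rw [hsmulA] at this
            exact QuotientGroup.eq.1 this.symm
          have hcop : (Nat.card (s3k0_K H V)).Coprime (Nat.card A3) := by
            rw [hcardA]
            exact Nat.Coprime.coprime_dvd_left (Subgroup.card_subgroup_dvd_card _) hyp.copH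
          obtain ⟨n, hn, hfix⟩ := cls (s3k0_K H V) inferInstance hcop hKinv h hg
          have h1 : h * n = 1 := hyp.fpfH _ hfix
          have h2 : h = n⁻¹ := eq_inv_of_mul_eq_one_left h1
          rw [QuotientGroup.eq_one_iff, h2]
          exact (s3k0_K H V).inv_mem hn
      fpfV := hyp.fpfV
      irr := fun U hU hA =>
        hyp.irr U (fun h u hu => hU (h : H ⧸ s3k0_K H V) u hu) hA }
  have hconcl := ih (H ⧸ s3k0_K H V) V hlt hyp'
  have hle : commutator H ≤ (commutator (H ⧸ s3k0_K H V)).comap (QuotientGroup.mk' (s3k0_K H V)) := by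
    rw [commutator_def, Subgroup.commutator_le]
    intro g₁ _ g₂ _
    rw [Subgroup.mem_comap, map_commutatorElement, commutator_def]
    exact Subgroup.commutator_mem_commutator (Subgroup.mem_top _) (Subgroup.mem_top _)
  intro h hh v
  have hmem : (h : H ⧸ s3k0_K H V) ∈ commutator (H ⧸ s3k0_K H V) := hle hh
  have := hconcl _ hmem v
  rwa [hsmulV] at this

/-- K0: the non-faithful case follows from the induction hypothesis (pass to `H ⧸ kernel`). -/
theorem KP_nonfaithful (hyp : KPHyp H V) (hnf : ¬ Faithful H V) (ih : IHyp H) : KPConcl H V := by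
  have hfinH := hyp.finH
  exact k0_core (fun N _ hs hc hNB g hg => coprime_lift_solv N hs hc hNB g hg) hyp hnf ih

end decomp

end Cfsg.Agent.Lib.Helper66.S3
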