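import Cfsg.Agent.Lib.Helper66.S3Defs

/-! # S4305 hive (S3), leaf K1 : `proper_normal_abelian` (helper3)

Under the induction hypothesis, proper `A3`-invariant normal subgroups of a faithful `H` are abelian. -/

set_option autoImplicit false

namespace Cfsg.Agent.Lib.Helper66.S3

universe u

/-- K1 aux: the restricted action of `A3` on an invariant subgroup. -/
@[reducible] def K1_actSub {H : Type u} [Group H] [MulDistribMulAction A3 H] (N : Subgroup H)
    (hNA : ∀ a : A3, ∀ n ∈ N, a • n ∈ N) : MulDistribMulAction A3 ↥N where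
  smul a n := ⟨a • (n : H), hNA a n n.2⟩
  one_smul n := Subtype.ext (one_smul A3 (n : H))
  mul_smul a b n := Subtype.ext (mul_smul a b (n : H))
  smul_mul a m n := Subtype.ext (smul_mul' a (m : H) (n : H))
  smul_one a := Subtype.ext (smul_one a)

/-- K1 aux: the restricted action of `A3` on an invariant subgroup of the commutative group `V`. -/
@[reducible] def K1_actSubV {V : Type u} [CommGroup V] [MulDistribMulAction A3 V] (V1 : Subgroup V)
    (hVA : ∀ a : A3, ∀ v ∈ V1, a • v ∈ V1) : MulDistribMulAction A3 ↥V1 where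
  smul a v := ⟨a • (v : V), hVA a v v.2⟩
  one_smul v := Subtype.ext (one_smul A3 (v : V))
  mul_smul a b v := Subtype.ext (mul_smul a b (v : V))
  smul_mul a v w := Subtype.ext (smul_mul' a (v : V) (w : V))
  smul_one a := Subtype.ext (smul_one a)

/-- K1 aux: the restricted action of a subgroup `N` of `H` on an `N`-invariant subgroup of `V`. -/
@[reducible] def K1_actNV {H V : Type u} [Group H] [CommGroup V] [MulDistribMulAction H V]
    (N : Subgroup H) (V1 : Subgroup V) (hinv : ∀ n ∈ N, ∀ v ∈ V1, n • v ∈ V1) :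
    MulDistribMulAction ↥N ↥V1 where
  smul n v := ⟨(n : H) • (v : V), hinv n n.2 v v.2⟩
  one_smul v := Subtype.ext (one_smul H (v : V))
  mul_smul m n v := Subtype.ext (mul_smul (m : H) (n : H) (v : V))
  smul_mul n v w := Subtype.ext (smul_mul' (n : H) (v : V) (w : V))
  smul_one n := Subtype.ext (smul_one (n : H))

section decomp

variable {H V : Type u} [Group H] [CommGroup V] [MulDistribMulAction A3 H]
  [MulDistribMulAction A3 V] [MulDistribMulAction H V] {p r : ℕ} {F : Subgroup H}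

/-- K1 aux: the subgroup of `V` fixed by all commutators of elements of `N`. -/
def K1_fix (N : Subgroup H) : Subgroup V where
  carrier := {v | ∀ x ∈ N, ∀ y ∈ N, (x * y * x⁻¹ * y⁻¹) • v = v}
  one_mem' := fun x _ y _ => smul_one _
  mul_mem' := by
    intro v w hv hw x hx y hy
    rw [smul_mul', hv x hx y hy, hw x hx y hy]
  inv_mem' := by
    intro v hv x hx y hy
    rw [smul_inv', hv x hx y hy]

theorem K1_mem_fix (N : Subgroup H) (v : V) :
    v ∈ K1_fix (V := V) N ↔ ∀ x ∈ N, ∀ y ∈ N, (x * y * x⁻¹ * y⁻¹) • v = v := Iff.rfl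

/-- K1 aux: `K1_fix N` is `H`-invariant when `N` is normal. -/
theorem K1_fix_smulH (N : Subgroup H) (hN : N.Normal) (h : H) (v : V) (hv : v ∈ K1_fix (V := V) N) :
    h • v ∈ K1_fix (V := V) N := by
  intro x hx y hy
  have hx' : h⁻¹ * x * h ∈ N := by
    have := hN.conj_mem x hx h⁻¹
    simpa using this
  have hy' : h⁻¹ * y * h ∈ N := by
    have := hN.conj_mem y hy h⁻¹
    simpa using this
  have key := hv _ hx' _ hy'
  have e : (x * y * x⁻¹ * y⁻¹) * h =
      h * ((h⁻¹ * x * h) * (h⁻¹ * y * h) * (h⁻¹ * x * h)⁻¹ * (h⁻¹ * y * h)⁻¹) := by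
    group
  rw [← mul_smul, e, mul_smul, key]

/-- K1 aux: `K1_fix N` is `A3`-invariant when `N` is. -/
theorem K1_fix_smulA (compat : ∀ (a : A3) (h : H) (v : V), a • (h • v) = (a • h) • (a • v))
    (N : Subgroup H) (hNA : ∀ a : A3, ∀ n ∈ N, a • n ∈ N) (a : A3) (v : V)
    (hv : v ∈ K1_fix (V := V) N) : a • v ∈ K1_fix (V := V) N := by
  intro x hx y hy
  have hx' : a⁻¹ • x ∈ N := hNA a⁻¹ x hx
  have hy' : a⁻¹ • y ∈ N := hNA a⁻¹ y hy
  have key := hv _ hx' _ hy'
  have e : a • ((a⁻¹ • x) * (a⁻¹ • y) * (a⁻¹ • x)⁻¹ * (a⁻¹ • y)⁻¹) = x * y * x⁻¹ * y⁻¹ := by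
    simp only [smul_mul', smul_inv', smul_inv_smul]
  have := compat a ((a⁻¹ • x) * (a⁻¹ • y) * (a⁻¹ • x)⁻¹ * (a⁻¹ • y)⁻¹) v
  rw [key, e] at this
  exact this.symm

/-- K1: under the induction hypothesis, proper `A3`-invariant normal subgroups are abelian. -/
theorem proper_normal_abelian (hyp : KPHyp H V) (hf : Faithful H V) (ih : IHyp H)
    (N : Subgroup H) (hN : N.Normal) (hNA : ∀ a : A3, ∀ n ∈ N, a • n ∈ N) (hne : N ≠ ⊤) :
    ∀ x ∈ N, ∀ y ∈ N, x * y = y * x := by
  haveI := hyp.finH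
  haveI := hyp.finV
  haveI := hyp.solv
  -- `V` is nontrivial
  have hVne : (⊤ : Subgroup V) ≠ ⊥ := by
    intro htop
    apply hne
    rw [eq_top_iff]
    intro h _
    have h1 : h = 1 := by
      apply hf h
      intro v
      have hv : v ∈ (⊥ : Subgroup V) := htop ▸ Subgroup.mem_top v
      have hhv : h • v ∈ (⊥ : Subgroup V) := htop ▸ Subgroup.mem_top (h • v)
      rw [Subgroup.mem_bot] at hv hhv
      rw [hhv, hv]
    rw [h1]; exact N.one_mem
  -- a minimal nontrivial `(N, A3)`-invariant subgroup `V1`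
  let S : Set (Subgroup V) := {U | U ≠ ⊥ ∧ (∀ n ∈ N, ∀ u ∈ U, n • u ∈ U) ∧
    (∀ a : A3, ∀ u ∈ U, a • u ∈ U)}
  have hSne : S.Nonempty := ⟨⊤, hVne, fun _ _ _ _ => Subgroup.mem_top _,
    fun _ _ _ => Subgroup.mem_top _⟩
  obtain ⟨V1, ⟨hV1ne, hV1N, hV1A⟩, hV1min⟩ := (Set.toFinite S).exists_minimal hSne
  letI iN : MulDistribMulAction A3 ↥N := K1_actSub N hNA
  letI iV : MulDistribMulAction A3 ↥V1 := K1_actSubV V1 hV1A
  letI iNV : MulDistribMulAction ↥N ↥V1 := K1_actNV N V1 hV1N
  have hlt : Nat.card ↥N < Nat.card H := by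
    have hdvd : Nat.card ↥N ∣ Nat.card H := Subgroup.card_subgroup_dvd_card N
    have hle : Nat.card ↥N ≤ Nat.card H := Nat.le_of_dvd Nat.card_pos hdvd
    rcases Nat.lt_or_ge (Nat.card ↥N) (Nat.card H) with h | h
    · exact h
    · exfalso
      exact hne ((Subgroup.card_eq_iff_eq_top N).mp (le_antisymm hle h))
  have hyp' : KPHyp ↥N ↥V1 :=
    { finH := inferInstance
      finV := inferInstance
      solv := inferInstance
      compat := fun a n v => Subtype.ext (hyp.compat a (n : H) (v : V))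
      copH := Nat.Coprime.coprime_dvd_left (Subgroup.card_subgroup_dvd_card N) hyp.copH
      copV := Nat.Coprime.coprime_dvd_left (Subgroup.card_subgroup_dvd_card V1) hyp.copV
      fpfH := fun n hn => Subtype.ext (hyp.fpfH (n : H) (fun a => congrArg Subtype.val (hn a)))
      fpfV := fun v hv => Subtype.ext (hyp.fpfV (v : V) (fun a => congrArg Subtype.val (hv a)))
      irr := by
        intro U hUN hUA
        let U' : Subgroup V := U.map V1.subtype
        have hU'le : U' ≤ V1 := by
          rintro _ ⟨u, _, rfl⟩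
          exact u.2
        by_cases hU' : U' = ⊥
        · left
          rw [eq_bot_iff]
          intro u hu
          have : (V1.subtype u) ∈ U' := Subgroup.mem_map_of_mem _ hu
          rw [hU', Subgroup.mem_bot] at this
          rw [Subgroup.mem_bot]
          exact Subtype.ext this
        · right
          have hU'S : U' ∈ S := by
            refine ⟨hU', ?_, ?_⟩
            · rintro n hn _ ⟨u, hu, rfl⟩
              exact ⟨(⟨n, hn⟩ : ↥N) • u, hUN ⟨n, hn⟩ u hu, rfl⟩
            · rintro a _ ⟨u, hu, rfl⟩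
              exact ⟨a • u, hUA a u hu, rfl⟩
          have hle : V1 ≤ U' := hV1min hU'S hU'le
          rw [eq_top_iff]
          intro u _
          obtain ⟨u', hu', hu'eq⟩ := hle u.2
          have : u' = u := Subtype.ext hu'eq
          rw [← this]; exact hu' }
  have concl : KPConcl ↥N ↥V1 := ih ↥N ↥V1 hlt hyp'
  -- `V1 ≤ K1_fix N`
  have hV1fix : V1 ≤ K1_fix (V := V) N := by
    intro v hv x hx y hy
    have hmem : (⟨x, hx⟩ : ↥N) * ⟨y, hy⟩ * (⟨x, hx⟩ : ↥N)⁻¹ * (⟨y, hy⟩ : ↥N)⁻¹ ∈ commutator ↥N := by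
      rw [commutator_def]
      have := Subgroup.commutator_mem_commutator (Subgroup.mem_top (⟨x, hx⟩ : ↥N))
        (Subgroup.mem_top (⟨y, hy⟩ : ↥N))
      rwa [commutatorElement_def] at this
    have := concl _ hmem ⟨v, hv⟩
    exact congrArg Subtype.val this
  -- `K1_fix N = ⊤`
  have hfixtop : K1_fix (V := V) N = ⊤ := by
    rcases hyp.irr (K1_fix (V := V) N) (fun h u hu => K1_fix_smulH N hN h u hu)
      (fun a u hu => K1_fix_smulA hyp.compat N hNA a u hu) with h | h
    · exfalso
      apply hV1ne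
      rw [eq_bot_iff]
      exact h ▸ hV1fix
    · exact h
  intro x hx y hy
  have h1 : x * y * x⁻¹ * y⁻¹ = 1 := by
    apply hf
    intro v
    have hv : v ∈ K1_fix (V := V) N := hfixtop ▸ Subgroup.mem_top v
    exact hv x hx y hy
  calc x * y = (x * y * x⁻¹ * y⁻¹) * (y * x) := by group
    _ = y * x := by rw [h1, one_mul]

end decomp

end Cfsg.Agent.Lib.Helper66.S3
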