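import Cfsg.Agent.Lib.Helper66.S3Defs

/-!
# S4305 hive (tag S3, owner helper66): leaf K2 `exists_config` (written by helper5)
-/

set_option autoImplicit false

namespace Cfsg.Agent.Lib.Helper66.S3

universe u

open scoped commutatorElement

section decomp

variable {H V : Type u} [Group H] [CommGroup V] [MulDistribMulAction A3 H]
  [MulDistribMulAction A3 V] [MulDistribMulAction H V] {p r : ℕ} {F : Subgroup H}

/-- `V` has prime exponent. -/
theorem k2_exp (hyp : KPHyp H V) (hV : ∃ v : V, v ≠ 1) :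
    ∃ p : ℕ, p.Prime ∧ (∀ v : V, v ^ p = 1) := by
  have := hyp.finV
  obtain ⟨v0, hv0⟩ := hV
  have hcard : Nat.card V ≠ 1 := by
    intro h1
    have := (Nat.card_eq_one_iff_unique.mp h1).1
    exact hv0 (Subsingleton.elim _ _)
  obtain ⟨p, hp, hpd⟩ := Nat.exists_prime_and_dvd hcard
  have : Fact p.Prime := ⟨hp⟩
  obtain ⟨x, hx⟩ := exists_prime_orderOf_dvd_card' p hpd
  refine ⟨p, hp, ?_⟩
  have hU := hyp.irr (powMonoidHom p : V →* V).ker ?_ ?_
  · rcases hU with hU | hU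
    · exfalso
      have hxU : x ∈ (powMonoidHom p : V →* V).ker := by
        rw [MonoidHom.mem_ker, powMonoidHom_apply, ← hx, pow_orderOf_eq_one]
      rw [hU, Subgroup.mem_bot] at hxU
      rw [hxU, orderOf_one] at hx
      exact hp.one_lt.ne' hx.symm
    · intro v
      have hv : v ∈ (powMonoidHom p : V →* V).ker := by rw [hU]; trivial
      rwa [MonoidHom.mem_ker, powMonoidHom_apply] at hv
  · intro h u hu
    rw [MonoidHom.mem_ker, powMonoidHom_apply] at hu ⊢
    rw [← smul_pow', hu, smul_one]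
  · intro a u hu
    rw [MonoidHom.mem_ker, powMonoidHom_apply] at hu ⊢
    rw [← smul_pow', hu, smul_one]

/-- a maximal proper normal `A3`-invariant subgroup -/
theorem k2_max [Finite H] (hnt : ∃ x : H, x ≠ 1) :
    ∃ F : Subgroup H, (F.Normal ∧ (∀ a : A3, ∀ f ∈ F, a • f ∈ F) ∧ F ≠ ⊤) ∧
      ∀ M : Subgroup H, M.Normal → (∀ a : A3, ∀ m ∈ M, a • m ∈ M) → M ≠ ⊤ → F ≤ M → M = F := by
  have hfin : {N : Subgroup H | N.Normal ∧ (∀ a : A3, ∀ n ∈ N, a • n ∈ N) ∧ N ≠ ⊤}.Finite :=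
    Set.toFinite _
  have hbot : (⊥ : Subgroup H) ∈
      {N : Subgroup H | N.Normal ∧ (∀ a : A3, ∀ n ∈ N, a • n ∈ N) ∧ N ≠ ⊤} := by
    refine ⟨inferInstance, ?_, ?_⟩
    · intro a n hn
      rw [Subgroup.mem_bot] at hn ⊢
      rw [hn, smul_one]
    · intro h
      obtain ⟨x, hx⟩ := hnt
      apply hx
      have hxb : x ∈ (⊥ : Subgroup H) := by rw [h]; trivial
      exact Subgroup.mem_bot.mp hxb
  obtain ⟨F, _, hF⟩ := hfin.exists_le_maximal hbot
  refine ⟨F, hF.prop, ?_⟩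
  intro M hMn hMA hMt hFM
  exact le_antisymm (hF.le_of_ge ⟨hMn, hMA, hMt⟩ hFM) hFM

theorem k2_comm_inv (a : A3) (x : H) (hx : x ∈ commutator H) : a • x ∈ commutator H := by
  have h1 : a • x ∈ (commutator H).map (MulDistribMulAction.toMonoidHom H a) := ⟨x, hx, rfl⟩
  rw [commutator_def, Subgroup.map_commutator] at h1
  exact Subgroup.commutator_mono le_top le_top h1

theorem k2_inv_sup (N1 N2 : Subgroup H) (h1 : ∀ a : A3, ∀ n ∈ N1, a • n ∈ N1)
    (h2 : ∀ a : A3, ∀ n ∈ N2, a • n ∈ N2) : ∀ a : A3, ∀ n ∈ N1 ⊔ N2, a • n ∈ N1 ⊔ N2 := by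
  intro a n hn
  have h3 : a • n ∈ (N1 ⊔ N2).map (MulDistribMulAction.toMonoidHom H a) := ⟨n, hn, rfl⟩
  rw [Subgroup.map_sup] at h3
  have hle : N1.map (MulDistribMulAction.toMonoidHom H a) ⊔ N2.map (MulDistribMulAction.toMonoidHom H a) ≤
      N1 ⊔ N2 := by
    apply sup_le_sup
    · rintro _ ⟨x, hx, rfl⟩
      exact h1 a x hx
    · rintro _ ⟨x, hx, rfl⟩
      exact h2 a x hx
  exact hle h3

theorem k2_quot_comm [Finite H] (hs : Group.IsSolvable H) (F : Subgroup H) (hFn : F.Normal)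
    (hFA : ∀ a : A3, ∀ f ∈ F, a • f ∈ F) (hFt : F ≠ ⊤)
    (hmax : ∀ M : Subgroup H, M.Normal → (∀ a : A3, ∀ m ∈ M, a • m ∈ M) → M ≠ ⊤ → F ≤ M → M = F) :
    commutator H ≤ F := by
  have hnt : Nontrivial (H ⧸ F) := by
    obtain ⟨x, hx⟩ : ∃ x : H, x ∉ F := by
      by_contra hcon
      push Not at hcon
      exact hFt (eq_top_iff.mpr (fun x _ => hcon x))
    refine ⟨⟨(x : H ⧸ F), 1, ?_⟩⟩
    intro h
    exact hx ((QuotientGroup.eq_one_iff x).mp h)
  have hlt := Group.IsSolvable.commutator_lt_top_of_nontrivial (H ⧸ F)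
  have hsurj : Function.Surjective (QuotientGroup.mk' F) := QuotientGroup.mk'_surjective F
  have hmap : (commutator H).map (QuotientGroup.mk' F) = commutator (H ⧸ F) := by
    rw [commutator_def, commutator_def, Subgroup.map_commutator,
      Subgroup.map_top_of_surjective _ hsurj]
  have hMn : (F ⊔ commutator H).Normal := inferInstance
  have hMA := k2_inv_sup F (commutator H) hFA (fun a x hx => k2_comm_inv a x hx)
  have hMt : F ⊔ commutator H ≠ ⊤ := by
    intro htop
    apply hlt.ne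
    rw [← hmap]
    have h1 : (F ⊔ commutator H).map (QuotientGroup.mk' F) = ⊤ := by
      rw [htop, Subgroup.map_top_of_surjective _ hsurj]
    rw [Subgroup.map_sup, QuotientGroup.map_mk'_self, bot_sup_eq] at h1
    exact h1
  have hM := hmax _ hMn hMA hMt le_sup_left
  rw [← hM]
  exact le_sup_right

theorem k2_quot_irr (F : Subgroup H) (hcomm : commutator H ≤ F)
    (hmax : ∀ M : Subgroup H, M.Normal → (∀ a : A3, ∀ m ∈ M, a • m ∈ M) → M ≠ ⊤ → F ≤ M → M = F) :
    ∀ M : Subgroup H, F ≤ M → (∀ a : A3, ∀ m ∈ M, a • m ∈ M) → M = F ∨ M = ⊤ := by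
  intro M hFM hMA
  by_cases hMt : M = ⊤
  · right; exact hMt
  · left
    exact hmax M (Subgroup.Normal.of_commutator_le H (hcomm.trans hFM)) hMA hMt hFM

/-- a prime `r` with `h ^ r ∈ F` for all `h` -/
theorem k2_exists_r [Finite H] (F : Subgroup H) (hFn : F.Normal)
    (hFt : F ≠ ⊤) (hcomm : commutator H ≤ F)
    (hmax : ∀ M : Subgroup H, M.Normal → (∀ a : A3, ∀ m ∈ M, a • m ∈ M) → M ≠ ⊤ → F ≤ M → M = F)
    (hFA : ∀ a : A3, ∀ f ∈ F, a • f ∈ F) :
    ∃ r : ℕ, r.Prime ∧ ∀ h : H, h ^ r ∈ F := by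
  have hnt : Nontrivial (H ⧸ F) := by
    obtain ⟨x, hx⟩ : ∃ x : H, x ∉ F := by
      by_contra hcon
      push Not at hcon
      exact hFt (eq_top_iff.mpr (fun x _ => hcon x))
    refine ⟨⟨(x : H ⧸ F), 1, ?_⟩⟩
    intro h
    exact hx ((QuotientGroup.eq_one_iff x).mp h)
  have hcard : Nat.card (H ⧸ F) ≠ 1 := by
    intro h1
    have := (Nat.card_eq_one_iff_unique.mp h1).1
    exact not_subsingleton (H ⧸ F) this
  obtain ⟨r, hr, hrd⟩ := Nat.exists_prime_and_dvd hcard
  have : Fact r.Prime := ⟨hr⟩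
  obtain ⟨q, hq⟩ := exists_prime_orderOf_dvd_card' r hrd
  refine ⟨r, hr, ?_⟩
  -- the quotient is commutative
  have hcq : ∀ x y : H ⧸ F, x * y = y * x := by
    intro x y
    obtain ⟨x, rfl⟩ := QuotientGroup.mk_surjective x
    obtain ⟨y, rfl⟩ := QuotientGroup.mk_surjective y
    rw [← QuotientGroup.mk_mul, ← QuotientGroup.mk_mul, QuotientGroup.eq]
    have h1 : (x * y)⁻¹ * (y * x) = ⁅y⁻¹, x⁻¹⁆ := by
      rw [commutatorElement_def]; group
    rw [h1]
    exact hcomm (Subgroup.commutator_mem_commutator (Subgroup.mem_top _) (Subgroup.mem_top _))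
  let K : Subgroup (H ⧸ F) :=
    { carrier := {q | q ^ r = 1}
      one_mem' := one_pow r
      mul_mem' := by
        intro a b ha hb
        rw [Set.mem_ofPred_eq] at *
        have hab : Commute a b := hcq a b
        rw [hab.mul_pow, ha, hb, one_mul]
      inv_mem' := by
        intro a ha
        rw [Set.mem_ofPred_eq] at *
        rw [inv_pow, ha, inv_one] }
  have hmemK : ∀ h : H, h ∈ K.comap (QuotientGroup.mk' F) ↔ h ^ r ∈ F := by
    intro h
    rw [Subgroup.mem_comap]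
    show ((QuotientGroup.mk' F) h) ^ r = 1 ↔ _
    rw [← map_pow, QuotientGroup.mk'_apply, QuotientGroup.eq_one_iff]
  have hFM : F ≤ K.comap (QuotientGroup.mk' F) := by
    intro f hf
    rw [hmemK]
    exact F.pow_mem hf r
  have hMn : (K.comap (QuotientGroup.mk' F)).Normal :=
    Subgroup.Normal.of_commutator_le H (hcomm.trans hFM)
  have hMA : ∀ a : A3, ∀ m ∈ K.comap (QuotientGroup.mk' F), a • m ∈ K.comap (QuotientGroup.mk' F) := by
    intro a m hm
    rw [hmemK] at hm ⊢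
    rw [← smul_pow']
    exact hFA a _ hm
  have hMF : K.comap (QuotientGroup.mk' F) ≠ F := by
    intro hMF
    obtain ⟨h0, rfl⟩ := QuotientGroup.mk'_surjective F q
    have h1 : h0 ∈ K.comap (QuotientGroup.mk' F) := by
      rw [Subgroup.mem_comap]
      show ((QuotientGroup.mk' F) h0) ^ r = 1
      rw [← hq, pow_orderOf_eq_one]
    rw [hMF] at h1
    have h2 : (QuotientGroup.mk' F) h0 = 1 := (QuotientGroup.eq_one_iff h0).mpr h1
    rw [h2, orderOf_one] at hq
    exact hr.one_lt.ne' hq.symm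
  have htop : K.comap (QuotientGroup.mk' F) = ⊤ := by
    by_contra hMt
    exact hMF (hmax _ hMn hMA hMt hFM)
  intro h
  rw [← hmemK, htop]
  trivial

omit [MulDistribMulAction A3 H] in
/-- the class two identity -/
theorem k2_class2 (x y c : H) (hc : x * y * x⁻¹ = c * y) (hcx : c * x = x * c) :
    ∀ n : ℕ, x ^ n * y * (x ^ n)⁻¹ = c ^ n * y := by
  intro n
  induction n with
  | zero => simp
  | succ n ih =>
    have hcn : c ^ n * x = x * c ^ n := (Commute.pow_left hcx n)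
    calc x ^ (n + 1) * y * (x ^ (n + 1))⁻¹ = x * (x ^ n * y * (x ^ n)⁻¹) * x⁻¹ := by
          rw [pow_succ', mul_inv_rev]; simp only [mul_assoc]
      _ = x * (c ^ n * y) * x⁻¹ := by rw [ih]
      _ = (x * c ^ n) * y * x⁻¹ := by simp only [mul_assoc]
      _ = (c ^ n * x) * y * x⁻¹ := by rw [hcn]
      _ = c ^ n * (x * y * x⁻¹) := by simp only [mul_assoc]
      _ = c ^ n * (c * y) := by rw [hc]
      _ = c ^ (n + 1) * y := by rw [pow_succ, mul_assoc]

/-- `F` is a `p'`-group -/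
theorem k2_Fcop (hyp : KPHyp H V) (hf : Faithful H V) (p : ℕ) (hp : p.Prime)
    (hVexp : ∀ v : V, v ^ p = 1) (hV1 : ∃ v : V, v ≠ 1)
    (F : Subgroup H) (hFn : F.Normal) (hFA : ∀ a : A3, ∀ f ∈ F, a • f ∈ F)
    (hFc : ∀ x ∈ F, ∀ y ∈ F, x * y = y * x) : (Nat.card F).Coprime p := by
  have := hyp.finH
  have := hyp.finV
  have : Fact p.Prime := ⟨hp⟩
  rw [Nat.coprime_comm, Nat.Prime.coprime_iff_not_dvd hp]
  intro hpd
  obtain ⟨x, hx⟩ := exists_prime_orderOf_dvd_card' (G := ↥F) p hpd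
  let P : Subgroup H :=
    { carrier := {f | f ∈ F ∧ f ^ p = 1}
      one_mem' := ⟨F.one_mem, one_pow p⟩
      mul_mem' := by
        rintro a b ⟨ha, ha'⟩ ⟨hb, hb'⟩
        refine ⟨F.mul_mem ha hb, ?_⟩
        have hab : Commute a b := hFc a ha b hb
        rw [hab.mul_pow, ha', hb', one_mul]
      inv_mem' := by
        rintro a ⟨ha, ha'⟩
        exact ⟨F.inv_mem ha, by rw [inv_pow, ha', inv_one]⟩ }
  have hxP : (x : H) ∈ P := by
    refine ⟨x.2, ?_⟩
    rw [← Subgroup.coe_pow, ← hx, pow_orderOf_eq_one]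
    rfl
  have hx1 : (x : H) ≠ 1 := by
    intro h
    have hx' : x = 1 := Subtype.ext h
    rw [hx', orderOf_one] at hx
    exact hp.one_lt.ne' hx.symm
  have hPconj : ∀ h : H, ∀ f ∈ P, h * f * h⁻¹ ∈ P := by
    intro h f hf'
    refine ⟨hFn.conj_mem f hf'.1 h, ?_⟩
    rw [conj_pow, hf'.2, mul_one, mul_inv_cancel]
  have hPA : ∀ a : A3, ∀ f ∈ P, a • f ∈ P := by
    intro a f hf'
    exact ⟨hFA a f hf'.1, by rw [← smul_pow', hf'.2, smul_one]⟩
  let W : Subgroup V :=
    { carrier := {v | ∀ f ∈ P, f • v = v}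
      one_mem' := fun f _ => smul_one f
      mul_mem' := by
        intro a b ha hb f hf'
        rw [smul_mul', ha f hf', hb f hf']
      inv_mem' := by
        intro a ha f hf'
        rw [smul_inv', ha f hf'] }
  have hWH : ∀ h : H, ∀ u ∈ W, h • u ∈ W := by
    intro h u hu f hf'
    have h1 : (h⁻¹ * f * h⁻¹⁻¹) • u = u := hu _ (hPconj h⁻¹ f hf')
    calc f • h • u = h • (h⁻¹ * f * h⁻¹⁻¹) • u := by
          rw [← mul_smul, ← mul_smul]; congr 1; group
      _ = h • u := by rw [h1]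
  have hWA : ∀ a : A3, ∀ u ∈ W, a • u ∈ W := by
    intro a u hu f hf'
    have h1 : (a⁻¹ • f) • u = u := hu _ (hPA a⁻¹ f hf')
    calc f • a • u = (a • a⁻¹ • f) • (a • u) := by rw [smul_inv_smul]
      _ = a • ((a⁻¹ • f) • u) := (hyp.compat a (a⁻¹ • f) u).symm
      _ = a • u := by rw [h1]
  have hW1 : W ≠ ⊥ := by
    have hPp : IsPGroup p ↥P := by
      intro g
      refine ⟨1, ?_⟩
      apply Subtype.ext
      rw [pow_one, Subgroup.coe_pow]
      exact g.2.2
    have hVp : IsPGroup p V := fun v => ⟨1, by rw [pow_one]; exact hVexp v⟩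
    obtain ⟨m, hm⟩ := hVp.exists_card_eq
    have hm0 : m ≠ 0 := by
      rintro rfl
      rw [pow_zero] at hm
      obtain ⟨v, hv⟩ := hV1
      have := (Nat.card_eq_one_iff_unique.mp hm).1
      exact hv (Subsingleton.elim _ _)
    have hmod := hPp.card_modEq_card_fixedPoints V
    have hdvd : p ∣ Nat.card (MulAction.fixedPoints ↥P V) := by
      have h1 : p ∣ Nat.card V := by rw [hm]; exact dvd_pow_self p hm0
      exact Nat.modEq_zero_iff_dvd.mp (hmod.symm.trans (Nat.modEq_zero_iff_dvd.mpr h1))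
    intro hbot
    have hsub : ∀ v ∈ MulAction.fixedPoints ↥P V, v = 1 := by
      intro v hv
      have hvW : v ∈ W := by
        intro f hf'
        exact hv ⟨f, hf'⟩
      rw [hbot, Subgroup.mem_bot] at hvW
      exact hvW
    have hle : Nat.card (MulAction.fixedPoints ↥P V) ≤ 1 := by
      rw [Finite.card_le_one_iff_subsingleton]
      exact ⟨fun a b => Subtype.ext ((hsub a a.2).trans (hsub b b.2).symm)⟩
    have hpos : 0 < Nat.card (MulAction.fixedPoints ↥P V) := by
      have : Nonempty (MulAction.fixedPoints ↥P V) := ⟨⟨1, fun g => smul_one g⟩⟩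
      exact Nat.card_pos
    have h7 := Nat.le_of_dvd hpos hdvd
    have h8 := hp.two_le
    omega
  rcases hyp.irr W hWH hWA with h | h
  · exact hW1 h
  · apply hx1
    apply hf
    intro v
    have hv : v ∈ W := by rw [h]; trivial
    exact hv _ hxP

/-- K2: a faithful counterexample all of whose proper `A3`-invariant normal subgroups are abelian
contains a configuration. -/
theorem exists_config (hyp : KPHyp H V) (hf : Faithful H V) (hnab : ∃ x y : H, x * y ≠ y * x)
    (hprop : ∀ N : Subgroup H, N.Normal → (∀ a : A3, ∀ n ∈ N, a • n ∈ N) → N ≠ ⊤ →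
      ∀ x ∈ N, ∀ y ∈ N, x * y = y * x) :
    ∃ (p r : ℕ) (F : Subgroup H), Config H V p r F ∧
      ((∀ h : H, (∀ f ∈ F, h * f = f * h) → h ∈ F) ∨
        ((∀ h : H, ∀ f ∈ F, h * f = f * h) ∧ r ≠ p)) := by
  have := hyp.finH
  have := hyp.finV
  obtain ⟨x0, y0, hxy⟩ := hnab
  have hnt : ∃ x : H, x ≠ 1 := by
    by_contra hcon
    push Not at hcon
    apply hxy
    rw [hcon x0, hcon y0]
  have hV1 : ∃ v : V, v ≠ 1 := by
    by_contra hcon
    push Not at hcon
    obtain ⟨x, hx⟩ := hnt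
    apply hx
    apply hf
    intro v
    rw [hcon v, hcon (x • 1)]
  obtain ⟨p, hp, hVexp⟩ := k2_exp hyp hV1
  obtain ⟨F, ⟨hFn, hFA, hFt⟩, hmax⟩ := k2_max (H := H) hnt
  have hFc := hprop F hFn hFA hFt
  have hcomm := k2_quot_comm hyp.solv F hFn hFA hFt hmax
  obtain ⟨r, hr, hexp⟩ := k2_exists_r F hFn hFt hcomm hmax hFA
  have hirr := k2_quot_irr F hcomm hmax
  have hFcop := k2_Fcop hyp hf p hp hVexp hV1 F hFn hFA hFc
  have cfg : Config H V p r F :=
    ⟨hyp, hf, hp, hr, hVexp, hFn, hFA, hFc, hFcop, hFt, hcomm, hexp, hirr, ⟨x0, y0, hxy⟩⟩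
  refine ⟨p, r, F, cfg, ?_⟩
  have hCA : ∀ a : A3, ∀ c ∈ Subgroup.centralizer (F : Set H),
      a • c ∈ Subgroup.centralizer (F : Set H) := by
    intro a c hc
    rw [Subgroup.mem_centralizer_iff] at hc ⊢
    intro f hf'
    have h1 := hc (a⁻¹ • f) (hFA a⁻¹ f hf')
    have h2 := congrArg (fun z => a • z) h1
    simp only [smul_mul', smul_inv_smul] at h2
    exact h2
  have hFC : F ≤ Subgroup.centralizer (F : Set H) := by
    intro f hf'
    rw [Subgroup.mem_centralizer_iff]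
    intro g hg
    exact hFc g hg f hf'
  rcases hirr _ hFC hCA with hC | hC
  · left
    intro h hh
    rw [← hC, Subgroup.mem_centralizer_iff]
    intro f hf'
    exact (hh f hf').symm
  · right
    have hcent : ∀ h : H, ∀ f ∈ F, h * f = f * h := by
      intro h f hf'
      have hh : h ∈ Subgroup.centralizer (F : Set H) := by rw [hC]; trivial
      exact ((Subgroup.mem_centralizer_iff.mp hh) f hf').symm
    refine ⟨hcent, ?_⟩
    intro hrp
    apply hxy
    have hcF : x0 * y0 * x0⁻¹ * y0⁻¹ ∈ F := by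
      apply hcomm
      rw [← commutatorElement_def]
      exact Subgroup.commutator_mem_commutator (Subgroup.mem_top _) (Subgroup.mem_top _)
    obtain ⟨c, hc⟩ : ∃ c, c = x0 * y0 * x0⁻¹ * y0⁻¹ := ⟨_, rfl⟩
    rw [← hc] at hcF
    have hc1 : x0 * y0 * x0⁻¹ = c * y0 := by rw [hc]; group
    have hcx : c * x0 = x0 * c := (hcent x0 c hcF).symm
    have h2 := k2_class2 x0 y0 c hc1 hcx r
    have hxr : x0 ^ r ∈ F := hexp x0
    have h3 : x0 ^ r * y0 * (x0 ^ r)⁻¹ = y0 := by
      have h4 := hcent y0 (x0 ^ r) hxr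
      rw [← h4]; group
    rw [h3] at h2
    have hcr : c ^ r = 1 := by
      have h5 : 1 * y0 = c ^ r * y0 := by rw [one_mul]; exact h2
      exact (mul_right_cancel h5).symm
    have hc_one : c = 1 := by
      have h4 : orderOf (⟨c, hcF⟩ : ↥F) ∣ Nat.card ↥F := orderOf_dvd_natCard _
      have h5 : orderOf (⟨c, hcF⟩ : ↥F) ∣ p := by
        apply orderOf_dvd_of_pow_eq_one
        apply Subtype.ext
        rw [Subgroup.coe_pow]
        show c ^ p = 1
        rw [← hrp, hcr]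
      have h6 : orderOf (⟨c, hcF⟩ : ↥F) = 1 :=
        Nat.Coprime.eq_one_of_dvd (Nat.Coprime.coprime_dvd_left h4 hFcop) h5
      have h7 := orderOf_eq_one_iff.mp h6
      exact congrArg Subtype.val h7
    rw [hc] at hc_one
    calc x0 * y0 = (x0 * y0 * x0⁻¹ * y0⁻¹) * (y0 * x0) := by group
      _ = y0 * x0 := by rw [hc_one, one_mul]

end decomp

end Cfsg.Agent.Lib.Helper66.S3
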