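import Cfsg.Agent.Lib.Helper66.S3Defs
import Cfsg.Agent.Lib.Helper29.S3TCcore
import Cfsg.Agent.Lib.Helper66.S3.T
import Cfsg.Agent.Lib.Helper66.S3.D3
import Cfsg.Agent.Lib.Helper66.S3.D4
import Cfsg.Agent.Lib.Helper66.S3.D5
import Cfsg.Agent.Lib.Helper66.S3.D7
import Cfsg.Agent.Lib.Helper66.S3.D9

/-! # S3-TC (helper29, leaf of helper66's S3 hive for S4305): `three_comp_false` -/

set_option autoImplicit false

namespace Cfsg.Agent.Lib.Helper66.S3

universe u

section decomp

variable {H V : Type u} [Group H] [CommGroup V] [MulDistribMulAction A3 H]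
  [MulDistribMulAction A3 V] [MulDistribMulAction H V] {p r : ℕ} {F : Subgroup H}

/-- TC: if `H` fixes every component and `σ` moves one, contradiction (via lemma T). -/
theorem three_comp_false (cfg : Config H V p r F)
    (hfix : ∀ (h : H) (C : Subgroup H), comp (V := V) F C ≠ ⊥ → mapH h C = C)
    (C : Subgroup H) (hC0 : comp (V := V) F C ≠ ⊥) (hCs : mapA sig C ≠ C) : False := by
  have hfin : Finite H := cfg.hyp.finH
  exact tc_core cfg
    (fun D hDn hD hint => by
      have := hDn
      exact lemT cfg.hyp.copH cfg.hyp.fpfH D hD hint)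
    (fun C h v hv => comp_smulH cfg C h v hv) (fun C a v hv => comp_smulA cfg C a v hv)
    (iSup_comp cfg) (fun C C' h1 h2 => comp_trans cfg C C' h1 h2)
    (fun C hC => comp_stab cfg C hC) hfix C hC0 hCs

end decomp

end Cfsg.Agent.Lib.Helper66.S3
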