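import Cfsg.Agent.Lib.Helper66.S3Defs
import Cfsg.Agent.Lib.Helper66.S3.D1
import Cfsg.Agent.Lib.Helper66.S3.D1p
import Cfsg.Agent.Lib.Helper66.S3.D2
import Cfsg.Agent.Lib.Helper66.S3.D3
import Cfsg.Agent.Lib.Helper66.S3.D4
import Cfsg.Agent.Lib.Helper66.S3.SL
import Cfsg.Agent.Lib.Helper66.S3.HH
import Cfsg.Agent.Lib.Helper66.S3.ZZ
import Cfsg.Agent.Lib.Helper51.S3ZSmain

/-!
# S3 hive (S4305), leaf ZS `configZ_sigfix` (helper51)

The argument is in `Cfsg.Agent.Lib.Helper51.S3ZSnorm / S3ZSclass2 / S3ZScore / S3ZSmain`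
(`zs51_core`); here the landed leaves D1, D1p, D2, D3, D4, SL, HH, ZZ are plugged in.
-/

set_option autoImplicit false

namespace Cfsg.Agent.Lib.Helper66.S3

universe u

section decomp

variable {H V : Type u} [Group H] [CommGroup V] [MulDistribMulAction A3 H]
  [MulDistribMulAction A3 V] [MulDistribMulAction H V] {p r : ℕ} {F : Subgroup H}

/-- ZS: in configuration Z, `σ` has a nontrivial fixed vector on every `σ`-stable component. -/
theorem configZ_sigfix (cfg : Config H V p r F) (hcent : ∀ h : H, ∀ f ∈ F, h * f = f * h)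
    (hrp : r ≠ p) (C : Subgroup H) (hC0 : comp (V := V) F C ≠ ⊥) (hC : mapA sig C = C) :
    ∃ v ∈ comp (V := V) F C, v ≠ 1 ∧ sig • v = v := by
  have hCF : C ≤ F := comp_le (V := V) C hC0
  have hmapH : ∀ h : H, mapH h C = C := by
    intro h
    ext y
    simp only [mapH, Subgroup.mem_map]
    constructor
    · rintro ⟨x, hx, rfl⟩
      have h1 : (MulAut.conj h).toMonoidHom x = x := by
        show h * x * h⁻¹ = x
        rw [hcent h x (hCF hx), mul_inv_cancel_right]
      rw [h1]; exact hx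
    · intro hy
      refine ⟨y, hy, ?_⟩
      show h * y * h⁻¹ = y
      rw [hcent h y (hCF hy), mul_inv_cancel_right]
  have hWH : ∀ h : H, ∀ w ∈ comp (V := V) F C, h • w ∈ comp (V := V) F C := by
    intro h w hw
    have h1 := comp_smulH cfg C h w hw
    rw [hmapH h] at h1
    exact h1
  have hWs : ∀ w ∈ comp (V := V) F C, sig • w ∈ comp (V := V) F C := by
    intro w hw
    have h1 := comp_smulA cfg C sig w hw
    rw [hC] at h1
    exact h1
  have := cfg.hyp.finV
  exact zs51_core cfg hcent hrp C (comp (V := V) F C) hC0 hWH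
    (fun c hc v hv => comp_triv C c hc v hv)
    (fun f hf hfC v hv hfv => comp_fpf cfg C f hf hfC v hv hfv)
    (fun hW => lemSL cfg C hC0 hC hW)
    (fun hfix h w hw hcw => lemHH cfg.hyp.compat (comp (V := V) F C) hWH hWs hfix h w hw hcw)
    (configZ_z0 cfg hcent)

end decomp

end Cfsg.Agent.Lib.Helper66.S3
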