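import Cfsg.Agent.Lib.Helper66.S3Defs
import Cfsg.Agent.Lib.Helper66.S3.D1
import Cfsg.Agent.Lib.Helper66.S3.D1p
import Cfsg.Agent.Lib.Helper66.S3.D2
import Cfsg.Agent.Lib.Helper66.S3.D5
import Cfsg.Agent.Lib.Helper66.S3.D7
import Cfsg.Agent.Lib.Helper66.S3.D9
import Cfsg.Agent.Lib.Helper66.S3.ZZ
import Cfsg.Agent.Lib.Helper66.S3.ZS

/-! S3 hive (S4305, helper66), leaf ZA `configZ_allsig_false` (helper44). -/

set_option autoImplicit false

namespace Cfsg.Agent.Lib.Helper66.S3

universe u

theorem za_cases (b : A3) :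
    b = 1 ∨ b = sig ∨ b = sig * sig ∨ b = tau ∨ b = sig * tau ∨ b = sig * sig * tau := by
  revert b
  unfold sig tau
  decide

theorem za_sig_tau : sig * tau = tau * (sig * sig) := by
  unfold sig tau
  decide

theorem za_tau_tau : tau * tau = 1 := by
  unfold tau
  decide

theorem za_tau_eq1 : tau = (sig * sig) * (sig * tau) := by
  unfold sig tau
  decide

theorem za_tau_eq2 : tau = sig * (sig * sig * tau) := by
  unfold sig tau
  decide

section decomp

variable {H V : Type u} [Group H] [CommGroup V] [MulDistribMulAction A3 H]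
  [MulDistribMulAction A3 V] [MulDistribMulAction H V] {p r : ℕ} {F : Subgroup H}

theorem za_mem_mapA {a : A3} {C : Subgroup H} {x : H} : x ∈ mapA a C ↔ ∃ c ∈ C, a • c = x := by
  constructor
  · rintro ⟨c, hc, rfl⟩
    exact ⟨c, hc, rfl⟩
  · rintro ⟨c, hc, rfl⟩
    exact ⟨c, hc, rfl⟩

theorem za_mapA_mul (a b : A3) (C : Subgroup H) : mapA (a * b) C = mapA a (mapA b C) := by
  ext x
  rw [za_mem_mapA, za_mem_mapA]
  constructor
  · rintro ⟨c, hc, rfl⟩
    exact ⟨b • c, za_mem_mapA.mpr ⟨c, hc, rfl⟩, (mul_smul a b c).symm⟩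
  · rintro ⟨d, hd, rfl⟩
    obtain ⟨c, hc, rfl⟩ := za_mem_mapA.mp hd
    exact ⟨c, hc, mul_smul a b c⟩

theorem za_mapA_one (C : Subgroup H) : mapA (1 : A3) C = C := by
  ext x
  rw [za_mem_mapA]
  constructor
  · rintro ⟨c, hc, rfl⟩
    rwa [one_smul]
  · intro hx
    exact ⟨x, hx, one_smul _ _⟩

omit [MulDistribMulAction A3 H] in
theorem za_mapH_eq (hcent : ∀ h : H, ∀ f ∈ F, h * f = f * h) (C : Subgroup H) (hCF : C ≤ F)
    (h : H) : mapH h C = C := by
  ext x
  unfold mapH
  rw [Subgroup.mem_map]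
  have key : ∀ c ∈ C, (MulAut.conj h).toMonoidHom c = c := by
    intro c hc
    show h * c * h⁻¹ = c
    rw [hcent h c (hCF hc), mul_assoc, mul_inv_cancel, mul_one]
  constructor
  · rintro ⟨c, hc, rfl⟩
    rw [key c hc]; exact hc
  · intro hx
    exact ⟨x, hx, key x hx⟩

/-- If `σ` and `τ` both fix `u`, so does every element of `A3`. -/
theorem za_all_fix (u : V) (hs : sig • u = u) (ht : tau • u = u) (a : A3) : a • u = u := by
  rcases za_cases a with rfl | rfl | rfl | rfl | rfl | rfl
  · exact one_smul _ _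
  · exact hs
  · rw [mul_smul, hs, hs]
  · exact ht
  · rw [mul_smul, ht, hs]
  · rw [mul_smul, mul_smul, ht, hs, hs]

/-- In a `τ`-stable component, `τ` inverts the `σ`-fixed vectors. -/
theorem za_tau_inv (cfg : Config H V p r F) (u : V) (hsu : sig • u = u) : tau • u = u⁻¹ := by
  have h1 : sig • (tau • u) = tau • u := by
    rw [← mul_smul, za_sig_tau, mul_smul, mul_smul, hsu, hsu]
  have hw : ∀ a : A3, a • (u * tau • u) = u * tau • u := by
    apply za_all_fix
    · rw [smul_mul', hsu, h1]
    · rw [smul_mul', ← mul_smul tau tau, za_tau_tau, one_smul, mul_comm]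
  have := cfg.hyp.fpfV _ hw
  exact (eq_inv_of_mul_eq_one_right this)

theorem za_exists_comp (cfg : Config H V p r F) : ∃ C : Subgroup H, comp (V := V) F C ≠ ⊥ := by
  by_contra hno
  push Not at hno
  have htop : (⊤ : Subgroup V) = ⊥ := by
    rw [← iSup_comp cfg]
    simp only [hno, iSup_bot]
  have htriv : ∀ x : V, x = 1 := by
    intro x
    have : x ∈ (⊤ : Subgroup V) := Subgroup.mem_top x
    rw [htop] at this
    exact Subgroup.mem_bot.mp this
  obtain ⟨x, y, hxy⟩ := cfg.nonab
  have h1 : ∀ h : H, h = 1 := fun h => cfg.faithful h (fun v => by rw [htriv (h • v), htriv v])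
  exact hxy (by rw [h1 x, h1 y])

/-- ZA: configuration Z, all components fixed by `σ`. -/
theorem configZ_allsig_false (cfg : Config H V p r F)
    (hcent : ∀ h : H, ∀ f ∈ F, h * f = f * h) (hrp : r ≠ p)
    (hsig : ∀ C : Subgroup H, comp (V := V) F C ≠ ⊥ → mapA sig C = C) : False := by
  obtain ⟨C, hC0⟩ := za_exists_comp cfg
  have hCs := hsig C hC0
  obtain ⟨v, hv, hv1, hsv⟩ := configZ_sigfix cfg hcent hrp C hC0 hCs
  have hss : mapA (sig * sig) C = C := by rw [za_mapA_mul, hCs, hCs]
  by_cases hCt : mapA tau C = C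
  · -- `C` is `A3`-stable, hence the only component
    have hall : ∀ a : A3, mapA a C = C := by
      intro a
      rcases za_cases a with rfl | rfl | rfl | rfl | rfl | rfl
      · exact za_mapA_one C
      · exact hCs
      · exact hss
      · exact hCt
      · rw [za_mapA_mul, hCt, hCs]
      · rw [za_mapA_mul, hCt, hss]
    have hCF : C ≤ F := comp_le (V := V) C hC0
    have honly : ∀ C' : Subgroup H, comp (V := V) F C' ≠ ⊥ → C' = C := by
      intro C' hC'
      obtain ⟨a, h, rfl⟩ := comp_trans cfg C C' hC0 hC'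
      rw [za_mapH_eq hcent C hCF h, hall a]
    have htop : comp (V := V) F C = ⊤ := by
      rw [eq_top_iff, ← iSup_comp cfg]
      apply iSup_le
      intro C'
      by_cases hC' : comp (V := V) F C' = ⊥
      · rw [hC']; exact bot_le
      · rw [honly C' hC']
    obtain ⟨z, hz, hz1, hzr, hsz, htz, -⟩ := configZ_z0 cfg hcent
    have hzF : z ∈ F := cfg.quot_comm hz
    -- `z * z ∉ C`
    have hzzC : z * z ∉ C := by
      intro hzz
      have hodd : Odd (orderOf z) := by
        have := cfg.hyp.finH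
        have hdvd : orderOf z ∣ Nat.card H := orderOf_dvd_natCard z
        have hc6 : (orderOf z).Coprime 6 := Nat.Coprime.coprime_dvd_left hdvd cfg.hyp.copH
        have hc2 : (orderOf z).Coprime 2 := Nat.Coprime.coprime_dvd_right (by norm_num) hc6
        exact Nat.Coprime.odd_of_right hc2
      obtain ⟨k, hk⟩ := hodd
      have hzC : z ∈ C := by
        have h2 : z = (z * z) ^ (k + 1) := by
          rw [← pow_two, ← pow_mul]
          have : 2 * (k + 1) = orderOf z + 1 := by omega
          rw [this, pow_succ, pow_orderOf_eq_one, one_mul]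
        rw [h2]
        exact C.pow_mem hzz _
      apply hz1
      apply cfg.faithful
      intro x
      have hx : x ∈ comp (V := V) F C := by rw [htop]; exact Subgroup.mem_top x
      exact comp_triv C z hzC x hx
    -- `z • v` is `σ`-fixed
    have hszv : sig • (z • v) = z • v := by
      rw [cfg.hyp.compat, hsz, hsv]
    have e1 : tau • v = v⁻¹ := za_tau_inv cfg v hsv
    have e2 : tau • (z • v) = (z • v)⁻¹ := za_tau_inv cfg (z • v) hszv
    have e3 : z⁻¹ • v⁻¹ = z • v⁻¹ := by
      calc z⁻¹ • v⁻¹ = (tau • z) • (tau • v) := by rw [htz, e1]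
        _ = tau • (z • v) := (cfg.hyp.compat tau z v).symm
        _ = (z • v)⁻¹ := e2
        _ = z • v⁻¹ := (smul_inv' z v).symm
    have e4 : (z * z) • v⁻¹ = v⁻¹ := by
      rw [mul_smul, ← e3, ← mul_smul, mul_inv_cancel, one_smul]
    have e5 : (z * z) • v = v := by
      have := congrArg (fun x => x⁻¹) e4
      simpa [smul_inv'] using this
    exact hv1 (comp_fpf cfg C (z * z) (F.mul_mem hzF hzF) hzzC v hv e5)
  · -- the stabilizer of `C` is `⟨σ⟩`, which fixes `v`
    obtain ⟨a, -, -, hstab⟩ := comp_stab cfg C hC0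
    apply hv1
    apply hstab v hv
    intro b hb
    rcases za_cases b with rfl | rfl | rfl | rfl | rfl | rfl
    · exact one_smul _ _
    · exact hsv
    · rw [mul_smul, hsv, hsv]
    · exact absurd hb hCt
    · exfalso
      apply hCt
      rw [za_tau_eq1, za_mapA_mul, hb, hss]
    · exfalso
      apply hCt
      rw [za_tau_eq2, za_mapA_mul, hb, hCs]

end decomp

end Cfsg.Agent.Lib.Helper66.S3
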